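import Cfsg.Agent.Lib.LocalEven.OnePointFront.Local.Defs
import Cfsg.Agent.Lib.Coprime.Action
import Cfsg.Agent.Lib.Involution.ZStar.Basic

/-!
# The odd core of a local subgroup
-/

set_option autoImplicit false

namespace CfsgLib.LocalEven.OnePointFront

open MulAction Subgroup CfsgLib.LocalEven.TIEndgame CfsgLib.Involution

universe u v

variable {G : Type u} [Group G]

theorem oddIn_le (C : Subgroup G) : oddIn C ≤ C := map_subtype_le _

theorem conj_mem_sup {U V : Subgroup G} {g x : G} (hU : ∀ u ∈ U, g * u * g⁻¹ ∈ U ⊔ V)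
    (hV : ∀ v ∈ V, g * v * g⁻¹ ∈ U ⊔ V) (hx : x ∈ U ⊔ V) : g * x * g⁻¹ ∈ U ⊔ V := by
  have : U ⊔ V ≤ (U ⊔ V).comap (MulAut.conj g).toMonoidHom :=
    sup_le (fun u hu => hU u hu) (fun v hv => hV v hv)
  exact this hx

variable [Finite G]

theorem odd_card_oddIn (C : Subgroup G) : Odd (Nat.card (oddIn C)) := by
  rw [oddIn, Nat.card_congr (equivMapOfInjective _ C.subtype C.subtype_injective).symm.toEquiv]
  exact ZStar.odd_card_oddCore

theorem le_normalizer_oddIn (C : Subgroup G) : C ≤ normalizer (oddIn C : Set G) := fun g hg =>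
  Coprime.mem_normalizer_of_conj_map_le fun k hk => by
    obtain ⟨k', hk', rfl⟩ := hk
    haveI := ZStar.oddCore_normal (G := ↥C)
    exact ⟨⟨g, hg⟩ * k' * ⟨g, hg⟩⁻¹, Normal.conj_mem inferInstance _ hk' _, rfl⟩

theorem le_oddIn {C N : Subgroup G} (hN : N ≤ C) (hn : C ≤ normalizer (N : Set G))
    (hodd : Odd (Nat.card N)) : N ≤ oddIn C := by
  have h1 : N.subgroupOf C ≤ Cfsg.oddCore ↥C := ZStar.le_oddCore
    ((normal_subgroupOf_iff_le_normalizer hN).2 hn)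
    (by rwa [Nat.card_congr (subgroupOfEquivOfLe hN).toEquiv])
  intro x hx
  exact ⟨⟨x, hN hx⟩, h1 hx, rfl⟩

theorem conj_mem_oddIn {C : Subgroup G} {g x : G} (hg : g ∈ C) (hx : x ∈ oddIn C) :
    g * x * g⁻¹ ∈ oddIn C := (mem_normalizer_iff.1 (le_normalizer_oddIn C hg) x).1 hx

/-- Conjugation respects the odd core. -/
theorem conj_oddIn_mem {C C' : Subgroup G} {g x : G} (h : ∀ c : G, g * c * g⁻¹ ∈ C' ↔ c ∈ C)
    (hx : x ∈ oddIn C) : g * x * g⁻¹ ∈ oddIn C' := by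
  have hle : (oddIn C).map (MulAut.conj g).toMonoidHom ≤ oddIn C' := by
    refine le_oddIn ?_ ?_ ?_
    · rintro _ ⟨y, hy, rfl⟩
      exact (h y).2 (oddIn_le C hy)
    · intro c hc
      refine Coprime.mem_normalizer_of_conj_map_le ?_
      rintro _ ⟨y, hy, rfl⟩
      have hc' : g⁻¹ * c * g ∈ C := (h _).1 (by rwa [show g * (g⁻¹ * c * g) * g⁻¹ = c by group])
      refine ⟨g⁻¹ * c * g * y * (g⁻¹ * c * g)⁻¹, conj_mem_oddIn hc' hy, ?_⟩
      simp only [MulEquiv.coe_toMonoidHom, MulAut.conj_apply]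
      group
    · rw [Coprime.card_conj_map]; exact odd_card_oddIn C
  exact hle ⟨x, hx, rfl⟩

theorem odd_card_sup {U V : Subgroup G} (hV : V ≤ normalizer (U : Set G))
    (hU : Odd (Nat.card U)) (hVo : Odd (Nat.card V)) : Odd (Nat.card ↥(U ⊔ V)) := by
  rw [Nat.odd_iff]
  by_contra hne
  haveI : Fact (Nat.Prime 2) := ⟨Nat.prime_two⟩
  obtain ⟨⟨w, hw⟩, hw2⟩ := exists_prime_orderOf_dvd_card' (G := ↥(U ⊔ V)) 2 (by omega)
  rw [← orderOf_coe] at hw2
  obtain ⟨u, hu, v, hv, rfl⟩ := (Coprime.mem_sup_of_le_normalizer hV).1 hw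
  have hww : u * v * (u * v) = 1 := by
    rw [← pow_two, ← hw2, pow_orderOf_eq_one]
  have hvu : v * u * v⁻¹ ∈ U := (mem_normalizer_iff.1 (hV hv) u).1 hu
  have hvv : v * v ∈ U := by
    have e : v * v = (v * u * v⁻¹)⁻¹ * u⁻¹ := by
      calc v * v = (v * u * v⁻¹)⁻¹ * u⁻¹ * (u * v * (u * v)) := by group
        _ = _ := by rw [hww, mul_one]
    rw [e]; exact U.mul_mem (U.inv_mem hvu) (U.inv_mem hu)
  have hvU := ZStar.mem_of_sq_mem (Odd.of_dvd_nat hVo (Subgroup.orderOf_dvd_natCard V hv)) hvv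
  have := Subgroup.orderOf_dvd_natCard U (U.mul_mem hu hvU)
  change orderOf (u * v) = 2 at hw2
  rw [hw2] at this
  exact (Nat.not_even_iff_odd.2 hU) (even_iff_two_dvd.2 this)

/-- An odd element of `U R`, with `R` of exponent two, lies in `U`. -/
theorem mem_left_of_odd {U R : Subgroup G} (hR : R ≤ normalizer (U : Set G))
    (hsq : ∀ r ∈ R, r * r = 1) {v : G} (hv : Odd (orderOf v)) (hvm : v ∈ U ⊔ R) : v ∈ U := by
  obtain ⟨u, hu, r, hr, rfl⟩ := (Coprime.mem_sup_of_le_normalizer hR).1 hvm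
  refine ZStar.mem_of_sq_mem hv ?_
  have hri : r⁻¹ = r := inv_eq_of_mul_eq_one_right (hsq r hr)
  have h1 : r * u * r⁻¹ ∈ U := (mem_normalizer_iff.1 (hR hr) u).1 hu
  rw [show u * r * (u * r) = u * (r * u * r⁻¹) * (r * r) by group, hsq r hr, mul_one]
  exact U.mul_mem hu h1

end CfsgLib.LocalEven.OnePointFront
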