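import Cfsg.Agent.Lib.LocalEven.OnePointFront.Data

/-!
# Local control: interfaces
-/

set_option autoImplicit false

namespace CfsgLib.LocalEven.OnePointFront

open MulAction CfsgLib.LocalEven.TIEndgame

universe u v

variable {G : Type u} {Ω : Type v} [Group G] [MulAction G Ω]

/-- The stabiliser of `a` centralising `B`. -/
def localAt (a : Ω) (B : Subgroup G) : Subgroup G :=
  stabilizer G a ⊓ Subgroup.centralizer (B : Set G)

/-- `R` is normal modulo the odd core of `C`. -/
def RControl (C R : Subgroup G) : Prop := ∀ g ∈ C, ∀ r ∈ R, g * r * g⁻¹ ∈ oddIn C ⊔ R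

/-- What local control takes from the line of each `x * r`. -/
structure LineFacts (D : Set G) (a : Ω) (x : G) (R : Subgroup G) : Prop where
  odd : ∀ r ∈ R, Odd (Nat.card (lineKer D Ω (x * r)))
  mem : ∀ r ∈ R, ∀ d ∈ dat D a, Commute (x * r) d → ∃ k ∈ lineKer D Ω (x * r), k * d ∈ R

/-- A subgroup of `localAt a B` in which `R` is normal modulo `Ψ` and which contains the
centralisers of the elements of `R` outside `B`. -/
structure LocalHull (a : Ω) (x : G) (R B Ψ M' : Subgroup G) : Prop where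
  odd : Odd (Nat.card Ψ)
  psi_le : Ψ ≤ M'
  le : M' ≤ localAt a B
  normalises : M' ≤ Subgroup.normalizer (Ψ : Set G)
  R_le : R ≤ M'
  x_mem : x ∈ M'
  control : ∀ g ∈ M', ∀ r ∈ R, g * r * g⁻¹ ∈ Ψ ⊔ R
  norm_le : localAt a B ⊓ Subgroup.normalizer (R : Set G) ≤ M'
  cent : ∀ r ∈ R, r ∉ B → localAt a B ⊓ Subgroup.centralizer {r} ≤ M'
  cent_bad : ∀ r ∈ R, localAt a B ⊓ Subgroup.centralizer {x * r} ≤ M'

/-- The step left to the quotient argument: a hull of a deep enough subgroup is everything. -/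
def HullStep (a : Ω) (x : G) (R : Subgroup G) : Prop :=
  ∀ B Ψ M' : Subgroup G, B ≤ R → 4 * Nat.card B ≤ Nat.card R →
    (∀ B' : Subgroup G, B < B' → B' ≤ R → RControl (localAt a B') R) →
    LocalHull a x R B Ψ M' → M' = localAt a B

end CfsgLib.LocalEven.OnePointFront
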