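import Cfsg.Agent.Lib.LocalEven.OnePointFront.Data
import Mathlib.GroupTheory.Sylow

/-!
# The stabiliser of `a` in the centraliser of `B` is generated by centralisers

For `B ≤ R`, `B ≠ R`, the group `C = stabilizer G a ⊓ centralizer B` is contained in every subgroup
containing `C ⊓ normalizer R` and the centralisers in `C` of the elements of `R \ B` and of
`x * r` for `r ∈ R`.
-/

set_option autoImplicit false
set_option linter.style.haveILetI false

namespace CfsgLib.LocalEven.OnePointFront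

open MulAction CfsgLib.LocalEven.TIEndgame

universe u v

variable {G : Type u} {Ω : Type v} [Group G] [Finite G] [MulAction G Ω]
  {D : Set G} {a : Ω} {x : G} {R P : Subgroup G}

namespace HullGen

variable (hF : FullData D a x R P)
include hF

omit [Finite G] in
theorem le_stabilizer : R ≤ stabilizer G a := fun _ hr => hF.top.2.1 (hF.le hr)

omit [Finite G] in
theorem comm_of_mem {r s : G} (hr : r ∈ R) (hs : s ∈ R) : Commute r s := by
  have hi : ∀ y ∈ R, y⁻¹ = y := fun y hy => inv_eq_of_mul_eq_one_right (hF.sq y hy)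
  calc r * s = (r * s)⁻¹ := (hi _ (mul_mem hr hs)).symm
    _ = s⁻¹ * r⁻¹ := mul_inv_rev r s
    _ = s * r := by rw [hi r hr, hi s hs]

/-- A 2-subgroup of `H` can be moved inside `H` to one normalising `R` with members in `R`. -/
theorem exists_conj_into (hconj : ∀ g d : G, d ∈ D → g * d * g⁻¹ ∈ D) {H S : Subgroup G}
    (hH : H ≤ stabilizer G a) (hRH : R ≤ H) (hS : IsPGroup 2 S) (hSH : S ≤ H) :
    ∃ h ∈ H, (∀ d ∈ D, d ∈ S → h * d * h⁻¹ ∈ R) ∧
      ∀ s ∈ S, h * s * h⁻¹ ∈ Subgroup.normalizer (R : Set G) := by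
  haveI : Fact (Nat.Prime 2) := ⟨Nat.prime_two⟩
  have hR2 : IsPGroup 2 R := fun r => ⟨1, Subtype.ext (by simpa [pow_two] using hF.sq r r.2)⟩
  obtain ⟨S₀, hS₀⟩ := (hR2.comap_of_injective H.subtype Subtype.val_injective).exists_le_sylow
  obtain ⟨S₁, hS₁⟩ := (hS.comap_of_injective H.subtype Subtype.val_injective).exists_le_sylow
  obtain ⟨h, hh⟩ := MulAction.exists_smul_eq H S₁ S₀
  have hmem : ∀ s ∈ S, ∃ y : H, y ∈ (S₀ : Subgroup H) ∧ (y : G) = h * s * (h : G)⁻¹ := fun s hs => by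
    refine ⟨h * ⟨s, hSH hs⟩ * h⁻¹, ?_, rfl⟩
    rw [← hh, Sylow.coe_subgroup_smul]
    exact ⟨⟨s, hSH hs⟩, hS₁ hs, rfl⟩
  have hin : ∀ y : H, y ∈ (S₀ : Subgroup H) → (y : G) ∈ D → (y : G) ∈ R := fun y hy hyD =>
    hF.maximal ((S₀ : Subgroup H).map H.subtype) (S₀.isPGroup'.map _)
      ((Subgroup.map_subtype_le _).trans hH) (fun r hr => ⟨⟨r, hRH hr⟩, hS₀ hr, rfl⟩) _ hyD
      ⟨y, hy, rfl⟩
  refine ⟨h, h.2, fun d hd hdS => ?_, fun s hs => ?_⟩
  · obtain ⟨y, hy, he⟩ := hmem d hdS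
    exact he ▸ hin y hy (he ▸ hconj _ d hd)
  · obtain ⟨y, hy, he⟩ := hmem s hs
    rw [← he]
    have hfwd : ∀ y : H, y ∈ (S₀ : Subgroup H) → ∀ r ∈ R, (y : G) * r * (y : G)⁻¹ ∈ R := by
      intro y hy r hr
      by_cases hr1 : r = 1
      · rw [hr1, mul_one, mul_inv_cancel]; exact one_mem R
      refine hin (y * ⟨r, hRH hr⟩ * y⁻¹) (mul_mem (mul_mem hy (hS₀ hr)) (inv_mem hy)) ?_
      exact hconj _ r (((hF.mem_iff r).1 hr).resolve_left hr1).1
    refine Subgroup.mem_normalizer_iff.2 fun r => ⟨hfwd y hy r, fun hr => ?_⟩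
    have h1 := hfwd y⁻¹ (inv_mem hy) _ hr
    rwa [Subgroup.coe_inv, show (y : G)⁻¹ * ((y : G) * r * (y : G)⁻¹) * ((y : G)⁻¹)⁻¹ = r by group] at h1

/-- A conjugate of `R` inside `H` is conjugate to `R` by an element of `H`. -/
theorem exists_normalizer (hconj : ∀ g d : G, d ∈ D → g * d * g⁻¹ ∈ D) {H : Subgroup G}
    (hH : H ≤ stabilizer G a) (hRH : R ≤ H) {k : G} (hk : ∀ r ∈ R, k * r * k⁻¹ ∈ H) :
    ∃ h ∈ H, h * k ∈ Subgroup.normalizer (R : Set G) := by
  have hR2 : IsPGroup 2 R := fun r => ⟨1, Subtype.ext (by simpa [pow_two] using hF.sq r r.2)⟩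
  obtain ⟨h, hh, h1, -⟩ := (HullGen.exists_conj_into hF) hconj hH hRH (hR2.map (MulAut.conj k).toMonoidHom)
    (by rintro _ ⟨r, hr, rfl⟩; exact hk r hr)
  refine ⟨h, hh, ?_⟩
  have hle : R.map (MulAut.conj (h * k)).toMonoidHom ≤ R := by
    rintro _ ⟨r, hr, rfl⟩
    show h * k * r * (h * k)⁻¹ ∈ R
    by_cases hr1 : r = 1
    · rw [hr1, mul_one, mul_inv_cancel]; exact one_mem R
    rw [show h * k * r * (h * k)⁻¹ = h * (k * r * k⁻¹) * h⁻¹ by group]
    exact h1 _ (hconj k r (((hF.mem_iff r).1 hr).resolve_left hr1).1) ⟨r, hr, rfl⟩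
  have heq := Subgroup.eq_of_le_of_card_ge hle
    (Subgroup.card_map_of_injective (MulAut.conj (h * k)).injective).ge
  refine Subgroup.mem_normalizer_iff.2 fun r => ⟨fun hr => hle ⟨r, hr, rfl⟩, fun hr => ?_⟩
  rw [← heq] at hr
  obtain ⟨s, hs, he⟩ := hr
  rwa [(MulAut.conj (h * k)).injective (show MulAut.conj (h * k) s = MulAut.conj (h * k) r from he)] at hs

end HullGen

namespace HullGen

variable {B M : Subgroup G}
  (hconj : ∀ g d : G, d ∈ D → g * d * g⁻¹ ∈ D) (hF : FullData D a x R P) (hB : B ≤ R)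
  (hne : ¬ R ≤ B)
  (hN : stabilizer G a ⊓ Subgroup.centralizer (B : Set G) ⊓ Subgroup.normalizer (R : Set G) ≤ M)
  (hr : ∀ r ∈ R, r ∉ B →
    stabilizer G a ⊓ Subgroup.centralizer (B : Set G) ⊓ Subgroup.centralizer {r} ≤ M)
  (hx : ∀ r ∈ R, stabilizer G a ⊓ Subgroup.centralizer (B : Set G) ⊓ Subgroup.centralizer {x * r} ≤ M)

omit [Finite G] in
include hF hB in
theorem R_le_loc : R ≤ stabilizer G a ⊓ Subgroup.centralizer (B : Set G) := fun _ hs =>
  Subgroup.mem_inf.2 ⟨(HullGen.le_stabilizer hF) hs,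
    Subgroup.mem_centralizer_iff.2 fun _ hb => ((HullGen.comm_of_mem hF) (hB hb) hs).eq⟩

omit [Finite G] in
include hF hB in
theorem bad_mem_loc {r : G} (hr' : r ∈ R) :
    x * r ∈ stabilizer G a ⊓ Subgroup.centralizer (B : Set G) :=
  mul_mem (Subgroup.mem_inf.2 ⟨mem_stabilizer_iff.2 hF.fix,
    Subgroup.mem_centralizer_iff.2 fun b hb => (hF.comm b (hB hb)).eq.symm⟩) (R_le_loc hF hB hr')

omit [Finite G] in
theorem conj_of_mem {g b : G} (hg : g ∈ stabilizer G a ⊓ Subgroup.centralizer (B : Set G))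
    (hb : b ∈ B) : g * b * g⁻¹ = b :=
  mul_inv_eq_iff_eq_mul.2 (Subgroup.mem_centralizer_iff.1 (Subgroup.mem_inf.1 hg).2 b hb).symm

omit [Finite G] in
include hF hB hN in
theorem R_le_M : R ≤ M := fun _ hs =>
  hN (Subgroup.mem_inf.2 ⟨R_le_loc hF hB hs, Subgroup.le_normalizer hs⟩)

include hconj hF hB hN hr in
/-- A member of `R \ B` has only one fixed coset. -/
theorem mem_of_conj_mem {g r : G} (hg : g ∈ stabilizer G a ⊓ Subgroup.centralizer (B : Set G))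
    (hrR : r ∈ R) (hrB : r ∉ B) (hgr : g * r * g⁻¹ ∈ M) : g ∈ M := by
  haveI : Fact (Nat.Prime 2) := ⟨Nat.prime_two⟩
  set C := stabilizer G a ⊓ Subgroup.centralizer (B : Set G) with hC
  have hrC : r ∈ C := R_le_loc hF hB hrR
  have hd : g * r * g⁻¹ ∈ D :=
    hconj g r (((hF.mem_iff r).1 hrR).resolve_left (fun e => hrB (e ▸ one_mem B))).1
  have h2 : IsPGroup 2 (Subgroup.zpowers (g * r * g⁻¹)) := IsPGroup.of_card_dvd_pow (n := 1) (by
    rw [Nat.card_zpowers, pow_one]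
    exact orderOf_dvd_of_pow_eq_one (by rw [pow_two, show g * r * g⁻¹ * (g * r * g⁻¹) =
      g * (r * r) * g⁻¹ by group, hF.sq r hrR, mul_one, mul_inv_cancel]))
  obtain ⟨m, hm, h1, -⟩ := (HullGen.exists_conj_into hF) hconj (H := C ⊓ M) (inf_le_left.trans inf_le_left)
    (le_inf (R_le_loc hF hB) (R_le_M hF hB hN)) h2 (Subgroup.zpowers_le.2
      (Subgroup.mem_inf.2 ⟨mul_mem (mul_mem hg hrC) (inv_mem hg), hgr⟩))
  obtain ⟨hmC, hmM⟩ := Subgroup.mem_inf.1 hm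
  have hr' : m * g * r * (m * g)⁻¹ ∈ R := by
    rw [show m * g * r * (m * g)⁻¹ = m * (g * r * g⁻¹) * m⁻¹ by group]
    exact h1 _ hd (Subgroup.mem_zpowers _)
  have hmg : m * g ∈ C := mul_mem hmC hg
  have hr'B : m * g * r * (m * g)⁻¹ ∉ B := fun e => hrB (by
    have := conj_of_mem (a := a) (inv_mem hmg) e
    rw [show (m * g)⁻¹ * (m * g * r * (m * g)⁻¹) * ((m * g)⁻¹)⁻¹ = r by group] at this
    exact this ▸ e)
  obtain ⟨k, hk, hkn⟩ := (HullGen.exists_normalizer hF) hconj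
    (H := C ⊓ Subgroup.centralizer {m * g * r * (m * g)⁻¹}) (inf_le_left.trans inf_le_left)
    (fun s hs => Subgroup.mem_inf.2 ⟨R_le_loc hF hB hs,
      Subgroup.mem_centralizer_singleton_iff.2 ((HullGen.comm_of_mem hF) hs hr').eq⟩) (k := m * g)
    (fun s hs => Subgroup.mem_inf.2 ⟨mul_mem (mul_mem hmg (R_le_loc hF hB hs)) (inv_mem hmg),
      Subgroup.mem_centralizer_singleton_iff.2 (Commute.conj_iff _ |>.2 ((HullGen.comm_of_mem hF) hs hrR)).eq⟩)
  have hkM : k ∈ M := hr _ hr' hr'B hk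
  have hkmg : k * (m * g) ∈ M :=
    hN (Subgroup.mem_inf.2 ⟨mul_mem (Subgroup.mem_inf.1 hk).1 hmg, hkn⟩)
  have := mul_mem (inv_mem hmM) (mul_mem (inv_mem hkM) hkmg)
  rwa [show m⁻¹ * (k⁻¹ * (k * (m * g))) = g by group] at this

include hconj hF hB hne hN hr hx in
/-- An element commuting with `x * r₀` modulo `B` lies in `M`. -/
theorem mem_of_comm_mod {t r₀ b : G} (ht : t ∈ stabilizer G a ⊓ Subgroup.centralizer (B : Set G))
    (hr₀ : r₀ ∈ R) (hb : b ∈ B) (he : t * (x * r₀) * t⁻¹ = x * r₀ * b) : t ∈ M := by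
  obtain ⟨r, hrR, hrB⟩ := SetLike.not_le_iff_exists.1 hne
  have hmem : t * r * t⁻¹ ∈ stabilizer G a ⊓ Subgroup.centralizer (B : Set G) :=
    mul_mem (mul_mem ht (R_le_loc hF hB hrR)) (inv_mem ht)
  have h1 : Commute (t * r * t⁻¹) (x * r₀ * b) := he ▸ (Commute.conj_iff t).2
    (((hF.comm r hrR).symm).mul_right ((HullGen.comm_of_mem hF) hrR hr₀))
  have h2 : Commute (t * r * t⁻¹) b :=
    (Subgroup.mem_centralizer_iff.1 (Subgroup.mem_inf.1 hmem).2 b hb).symm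
  have h3 := h1.mul_right h2.inv_right
  rw [mul_inv_cancel_right] at h3
  exact mem_of_conj_mem hconj hF hB hN hr ht hrR hrB (hx r₀ hr₀ (Subgroup.mem_inf.2
    ⟨hmem, Subgroup.mem_centralizer_singleton_iff.2 h3.eq⟩))

include hconj hF hB hne hN hr hx in
/-- The bad involution `x * r₀` has only one fixed coset. -/
theorem mem_of_fix {g r₀ : G} (hg : g ∈ stabilizer G a ⊓ Subgroup.centralizer (B : Set G))
    (hr₀ : r₀ ∈ R) (hv : g⁻¹ * (x * r₀) * g ∈ M) : g ∈ M := by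
  haveI : Fact (Nat.Prime 2) := ⟨Nat.prime_two⟩
  set C := stabilizer G a ⊓ Subgroup.centralizer (B : Set G) with hC
  set v := x * r₀ with hvdef
  have hv2 : v * v = 1 := by
    have := (hF.bad_mul r₀ hr₀).1
    rw [← pow_two, ← this, pow_orderOf_eq_one]
  have h2 : IsPGroup 2 (Subgroup.zpowers (g⁻¹ * v * g)) := IsPGroup.of_card_dvd_pow (n := 1) (by
    rw [Nat.card_zpowers, pow_one]
    exact orderOf_dvd_of_pow_eq_one (by rw [pow_two, show g⁻¹ * v * g * (g⁻¹ * v * g) =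
      g⁻¹ * (v * v) * g by group, hv2, mul_one, inv_mul_cancel]))
  obtain ⟨m, hm, -, h1⟩ := (HullGen.exists_conj_into hF) hconj (H := C ⊓ M) (inf_le_left.trans inf_le_left)
    (le_inf (R_le_loc hF hB) (R_le_M hF hB hN)) h2 (Subgroup.zpowers_le.2
      (Subgroup.mem_inf.2 ⟨mul_mem (mul_mem (inv_mem hg) (bad_mem_loc hF hB hr₀)) hg, hv⟩))
  obtain ⟨hmC, hmM⟩ := Subgroup.mem_inf.1 hm
  set g' := g * m⁻¹ with hg'def
  have hg' : g' ∈ C := mul_mem hg (inv_mem hmC)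
  set n := g'⁻¹ * v * g' with hndef
  have hn : n ∈ Subgroup.normalizer (R : Set G) := by
    have := h1 _ (Subgroup.mem_zpowers (g⁻¹ * v * g))
    rwa [show m * (g⁻¹ * v * g) * m⁻¹ = n by rw [hndef, hg'def]; group] at this
  have hn2 : n * n = 1 := by
    rw [hndef, show g'⁻¹ * v * g' * (g'⁻¹ * v * g') = g'⁻¹ * (v * v) * g' by group, hv2, mul_one,
      inv_mul_cancel]
  have hnn : ∀ s ∈ R, n * s * n⁻¹ ∈ R := fun s hs => (Subgroup.mem_normalizer_iff.1 hn s).1 hs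
  obtain ⟨r, hrR, hrB⟩ := SetLike.not_le_iff_exists.1 hne
  obtain ⟨r₁, hr₁, hr₁B, hb⟩ : ∃ r₁ ∈ R, r₁ ∉ B ∧ n * r₁ * n⁻¹ * r₁ ∈ B := by
    by_cases hs : n * r * n⁻¹ * r ∈ B
    · exact ⟨r, hrR, hrB, hs⟩
    refine ⟨_, mul_mem (hnn r hrR) hrR, hs, ?_⟩
    have hc := (HullGen.comm_of_mem hF) (hnn r hrR) hrR
    rw [show n * (n * r * n⁻¹ * r) * n⁻¹ = n * n * r * (n * n)⁻¹ * (n * r * n⁻¹) by group,
      hn2, inv_one, one_mul, mul_one, ← hc.eq, hF.sq _ (mul_mem (hnn r hrR) hrR)]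
    exact one_mem B
  have hri : r₁⁻¹ = r₁ := inv_eq_of_mul_eq_one_right (hF.sq r₁ hr₁)
  have hni : n⁻¹ = n := inv_eq_of_mul_eq_one_right hn2
  have ht : g' * r₁ * g'⁻¹ ∈ C := mul_mem (mul_mem hg' (R_le_loc hF hB hr₁)) (inv_mem hg')
  have hb' : n * r₁ * n * r₁ ∈ B := by rwa [hni] at hb
  have key : g' * r₁ * g'⁻¹ * v * (g' * r₁ * g'⁻¹)⁻¹ = v * (n * r₁ * n⁻¹ * r₁) := by
    calc g' * r₁ * g'⁻¹ * v * (g' * r₁ * g'⁻¹)⁻¹
        = g' * n * g'⁻¹ * (g' * (n⁻¹ * r₁ * n * r₁⁻¹) * g'⁻¹) := by rw [hndef]; group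
      _ = g' * n * g'⁻¹ * (n * r₁ * n⁻¹ * r₁) := by rw [hri, hni, conj_of_mem hg' hb']
      _ = v * (n * r₁ * n⁻¹ * r₁) := by rw [show g' * n * g'⁻¹ = v by rw [hndef]; group]
  have htM := mem_of_comm_mod hconj hF hB hne hN hr hx ht hr₀ hb key
  have := mul_mem (mem_of_conj_mem hconj hF hB hN hr hg' hr₁ hr₁B htM) hmM
  rwa [hg'def, inv_mul_cancel_right] at this

end HullGen

open HullGen in
/-- `stabilizer G a ⊓ centralizer B` lies in every subgroup containing the centralisers in it of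
the elements of `R \ B`, of `x * r` and the normaliser of `R`. -/
theorem FullData.le_of_centralizers (h : ClosedSetting D Ω) (hF : FullData D a x R P)
    {B M : Subgroup G} (hB : B ≤ R) (hne : ¬ R ≤ B)
    (hN : stabilizer G a ⊓ Subgroup.centralizer (B : Set G) ⊓ Subgroup.normalizer (R : Set G) ≤ M)
    (hr : ∀ r ∈ R, r ∉ B →
      stabilizer G a ⊓ Subgroup.centralizer (B : Set G) ⊓ Subgroup.centralizer {r} ≤ M)
    (hx : ∀ r ∈ R,
      stabilizer G a ⊓ Subgroup.centralizer (B : Set G) ⊓ Subgroup.centralizer {x * r} ≤ M) :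
    stabilizer G a ⊓ Subgroup.centralizer (B : Set G) ≤ M := by
  haveI : Fact (Nat.Prime 2) := ⟨Nat.prime_two⟩
  have hop := h.toOnePoint
  have hconj := hop.conj_mem
  set C := stabilizer G a ⊓ Subgroup.centralizer (B : Set G) with hC
  intro g hg
  obtain ⟨r, hrR, hrB⟩ := SetLike.not_le_iff_exists.1 hne
  have hxC : x ∈ C := by have := bad_mem_loc hF hB (one_mem R); rwa [mul_one] at this
  have hx2 : x * x = 1 := by rw [← pow_two, ← hF.bad.1, pow_orderOf_eq_one]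
  have hxi : x⁻¹ = x := inv_eq_of_mul_eq_one_right hx2
  have hBC : ∀ {b : G}, b ∈ B → b ∈ C := fun hb => R_le_loc hF hB (hB hb)
  obtain ⟨e, hedef⟩ : ∃ e, e = g * r * g⁻¹ := ⟨_, rfl⟩
  obtain ⟨d, hddef⟩ : ∃ d, d = x * e * x := ⟨_, rfl⟩
  have heD : e ∈ D := hedef ▸ hconj g r (((hF.mem_iff r).1 hrR).resolve_left (fun e1 => hrB (e1 ▸ one_mem B))).1
  have hdD : d ∈ D := by have := hconj x e heD; rwa [hxi, ← hddef] at this
  have heC : e ∈ C := hedef ▸ mul_mem (mul_mem hg (R_le_loc hF hB hrR)) (inv_mem hg)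
  have hdC : d ∈ C := hddef ▸ mul_mem (mul_mem hxC heC) hxC
  have he2 : e * e = 1 := hop.mul_self heD
  have hd2 : d * d = 1 := hop.mul_self hdD
  obtain ⟨k, m, hm, hkm⟩ := Nat.exists_eq_two_pow_mul_odd (orderOf_pos (e * d)).ne'
  obtain ⟨w, hwdef⟩ : ∃ w, w = (e * d) ^ m := ⟨_, rfl⟩
  have hwk : w ^ 2 ^ k = 1 := by rw [hwdef, ← pow_mul, mul_comm, ← hkm, pow_orderOf_eq_one]
  have heinv : e⁻¹ = e := inv_eq_of_mul_eq_one_right he2
  have hed : e * (e * d) * e⁻¹ = (e * d)⁻¹ := by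
    rw [mul_inv_rev, inv_eq_of_mul_eq_one_right hd2, heinv, ← mul_assoc e e d, he2, one_mul]
  have hew : e * w * e⁻¹ = w⁻¹ := by rw [hwdef, ← conj_pow, hed, inv_pow]
  have hewD : e * w ∈ D := by
    have := hop.reflection_mem heD hdD (m : ℤ)
    rwa [zpow_natCast, ← hwdef] at this
  have hwC : w ∈ C := hwdef ▸ pow_mem (mul_mem heC hdC) m
  -- the 2-group generated by `e` and `e * w`
  have hS2 : IsPGroup 2 (Subgroup.zpowers e ⊔ Subgroup.zpowers w : Subgroup G) := by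
    refine IsPGroup.to_sup_of_normal_right' (IsPGroup.of_card_dvd_pow (n := 1) ?_)
      (IsPGroup.of_card_dvd_pow (n := k) ?_) (Subgroup.zpowers_le.2 ?_)
    · rw [Nat.card_zpowers, pow_one]
      exact orderOf_dvd_of_pow_eq_one (by rw [pow_two, he2])
    · rw [Nat.card_zpowers]
      exact orderOf_dvd_of_pow_eq_one hwk
    · have hfw : ∀ y ∈ Subgroup.zpowers w, e * y * e⁻¹ ∈ Subgroup.zpowers w := by
        rintro y ⟨i, rfl⟩
        show e * w ^ i * e⁻¹ ∈ _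
        rw [← conj_zpow, hew, inv_zpow]
        exact inv_mem (Subgroup.mem_zpowers_iff.2 ⟨i, rfl⟩)
      refine Subgroup.mem_normalizer_iff.2 fun y => ⟨hfw y, fun hy => ?_⟩
      have h1 := hfw _ hy
      rwa [heinv, show e * (e * y * e) * e = e * e * y * (e * e) by group, he2, one_mul, mul_one] at h1
  obtain ⟨q, hq, hq1, -⟩ := (HullGen.exists_conj_into hF) hconj (H := C) inf_le_left (R_le_loc hF hB) hS2
    (sup_le (Subgroup.zpowers_le.2 heC) (Subgroup.zpowers_le.2 hwC))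
  have hqe := hq1 e heD (Subgroup.mem_sup_left (Subgroup.mem_zpowers e))
  have hqew := hq1 _ hewD (mul_mem (Subgroup.mem_sup_left (Subgroup.mem_zpowers e))
    (Subgroup.mem_sup_right (Subgroup.mem_zpowers w)))
  have hqw : q * w * q⁻¹ ∈ R := by
    have := mul_mem hqe hqew
    rwa [show q * e * q⁻¹ * (q * (e * w) * q⁻¹) = q * (e * e * w) * q⁻¹ by group, he2, one_mul] at this
  by_cases hwB : w ∈ B
  swap
  · -- `q * w * q⁻¹` centralises the conjugates of `e` and `d`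
    have hqwB : q * w * q⁻¹ ∉ B := fun e1 => hwB (by
      have := conj_of_mem (a := a) (inv_mem hq) e1
      rw [show q⁻¹ * (q * w * q⁻¹) * (q⁻¹)⁻¹ = w by group] at this
      exact this ▸ e1)
    have hqg : q * g ∈ M := mem_of_conj_mem hconj hF hB hN hr (mul_mem hq hg) hrR hrB (by
      rw [show q * g * r * (q * g)⁻¹ = q * e * q⁻¹ by rw [hedef]; group]
      exact R_le_M hF hB hN hqe)
    have hde : d = e * (e * d) := by rw [← mul_assoc, he2, one_mul]
    have hwd : Commute w d := by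
      rw [hde]
      refine Commute.mul_right ?_ (hwdef ▸ (Commute.refl (e * d)).pow_left m)
      exact (Commute.conj_iff q).1 ((HullGen.comm_of_mem hF) hqw hqe)
    have hqdM : q * d * q⁻¹ ∈ M := hr _ hqw hqwB (Subgroup.mem_inf.2
      ⟨mul_mem (mul_mem hq hdC) (inv_mem hq),
        Subgroup.mem_centralizer_singleton_iff.2 ((Commute.conj_iff q).2 hwd.symm).eq⟩)
    have hqxg : q * x * g ∈ M := mem_of_conj_mem hconj hF hB hN hr (mul_mem (mul_mem hq hxC) hg)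
      hrR hrB (by
        rw [show q * x * g * r * (q * x * g)⁻¹ = q * (x * e * x⁻¹) * q⁻¹ by rw [hedef]; group, hxi,
          ← hddef]
        exact hqdM)
    refine mem_of_fix hconj hF hB hne hN hr hx hg (one_mem R) ?_
    rw [mul_one, show g⁻¹ * x * g = (q * g)⁻¹ * (q * x * g) by group]
    exact mul_mem (inv_mem hqg) hqxg
  -- the middle element `f`
  obtain ⟨j, hj⟩ := hm
  obtain ⟨f, hfdef⟩ : ∃ f, f = e * (e * d) ^ (j + 1) := ⟨_, rfl⟩
  have hfD : f ∈ D := by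
    have := hop.reflection_mem heD hdD ((j + 1 : ℕ) : ℤ)
    rwa [zpow_natCast, ← hfdef] at this
  have hfC : f ∈ C := hfdef ▸ mul_mem heC (pow_mem (mul_mem heC hdC) _)
  have hpow : (e * d) ^ (j + 1) * (e * d) ^ (j + 1) = e * d * w := by
    rw [hwdef, hj, ← pow_add, ← pow_succ']
    congr 1
    omega
  have hwi : w⁻¹ ∈ B := inv_mem hwB
  have hxfx : x * f * x = f * w⁻¹ := by
    have hxe : x * (e * d) * x⁻¹ = (e * d)⁻¹ := by
      rw [mul_inv_rev, inv_eq_of_mul_eq_one_right hd2, heinv, hxi, hddef,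
        show x * (e * (x * e * x)) * x = x * e * x * e * (x * x) by group, hx2, mul_one]
    calc x * f * x = x * e * x * (x * (e * d) * x⁻¹) ^ (j + 1) := by
          rw [hfdef, conj_pow, hxi, show x * e * x * (x * (e * d) ^ (j + 1) * x) =
            x * e * (x * x) * (e * d) ^ (j + 1) * x by group, hx2, mul_one, mul_assoc x e]
      _ = e * (e * d) * ((e * d) ^ (j + 1))⁻¹ := by
          rw [hxe, inv_pow, ← hddef, ← mul_assoc e e d, he2, one_mul]
      _ = f * w⁻¹ := by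
          rw [hfdef, hwdef, hj, show 2 * j + 1 = j + (j + 1) by omega, pow_add, pow_succ']
          generalize e * d = c
          group
  have hfx : f * x * f⁻¹ = x * w⁻¹ := by
    have hwf : Commute f w⁻¹ := (Subgroup.mem_centralizer_iff.1 (Subgroup.mem_inf.1 hfC).2 _ hwi).symm
    calc f * x * f⁻¹ = x * (x * f * x) * f⁻¹ := by
          rw [← mul_assoc x (x * f) x, ← mul_assoc x x f, hx2, one_mul]
      _ = x * w⁻¹ := by rw [hxfx, hwf.eq, mul_assoc, mul_assoc, mul_inv_cancel, mul_one]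
  have hfM : f ∈ M := mem_of_comm_mod hconj hF hB hne hN hr hx hfC (one_mem R) hwi (by
    rw [mul_one]; exact hfx)
  have hfef : f * e * f = d * w := by
    rw [hfdef, mul_assoc (e * (e * d) ^ (j + 1)) e, ← mul_assoc e e, he2, one_mul,
      mul_assoc, hpow, ← mul_assoc, ← mul_assoc, he2, one_mul]
  -- `x * f` maps `r` into `r * B`
  have hxfg : g⁻¹ * (x * f) * g ∈ M := by
    have hfi : f⁻¹ = f := hop.inv_eq hfD
    refine mem_of_conj_mem hconj hF hB hN hr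
      (mul_mem (mul_mem (inv_mem hg) (mul_mem hxC hfC)) hg) hrR hrB ?_
    rw [show g⁻¹ * (x * f) * g * r * (g⁻¹ * (x * f) * g)⁻¹ = g⁻¹ * (x * (f * e * f⁻¹) * x⁻¹) * g by
      rw [hedef]; group, hfi, hxi, hfef,
      show x * (d * w) * x = x * d * x * (x⁻¹ * w * x) by group]
    rw [show x * d * x = e by rw [hddef, show x * (x * e * x) * x = x * x * e * (x * x) by group, hx2,
        one_mul, mul_one],
      show x⁻¹ * w * x = x⁻¹ * w * (x⁻¹)⁻¹ by rw [inv_inv], conj_of_mem (inv_mem hxC) hwB,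
      show g⁻¹ * (e * w) * g = r * (g⁻¹ * w * (g⁻¹)⁻¹) by rw [hedef]; group,
      conj_of_mem (inv_mem hg) hwB]
    exact mul_mem (R_le_M hF hB hN hrR) (R_le_M hF hB hN (hB hwB))
  -- conjugate `f` into `R` modulo `B`
  let H : Subgroup G :=
    { carrier := {t | t ∈ C ∧ ∃ b ∈ B, t * x * t⁻¹ = x * b}
      one_mem' := ⟨one_mem C, 1, one_mem B, by simp⟩
      mul_mem' := by
        rintro s t ⟨hs, b, hb, hsb⟩ ⟨ht, b', hb', htb⟩
        refine ⟨mul_mem hs ht, b * b', mul_mem hb hb', ?_⟩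
        rw [show s * t * x * (s * t)⁻¹ = s * (t * x * t⁻¹) * s⁻¹ by group, htb,
          show s * (x * b') * s⁻¹ = s * x * s⁻¹ * (s * b' * s⁻¹) by group, hsb, conj_of_mem hs hb',
          mul_assoc]
      inv_mem' := by
        rintro t ⟨ht, b, hb, htb⟩
        refine ⟨inv_mem ht, b⁻¹, inv_mem hb, ?_⟩
        have h1 := congrArg (fun y => t⁻¹ * y * (t⁻¹)⁻¹) htb
        replace h1 : t⁻¹ * (t * x * t⁻¹) * (t⁻¹)⁻¹ = t⁻¹ * (x * b) * (t⁻¹)⁻¹ := h1
        rw [show t⁻¹ * (t * x * t⁻¹) * (t⁻¹)⁻¹ = x by group,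
          show t⁻¹ * (x * b) * (t⁻¹)⁻¹ = t⁻¹ * x * (t⁻¹)⁻¹ * (t⁻¹ * b * (t⁻¹)⁻¹) by group,
          conj_of_mem (inv_mem ht) hb] at h1
        exact eq_mul_inv_of_mul_eq h1.symm }
  have hfH : f ∈ H := ⟨hfC, w⁻¹, hwi, hfx⟩
  obtain ⟨t, ⟨htC, b, hb, htb⟩, ht1, -⟩ := (HullGen.exists_conj_into hF) hconj (H := H)
    (fun y hy => (Subgroup.mem_inf.1 hy.1).1)
    (fun s hs => ⟨R_le_loc hF hB hs, 1, one_mem B, by
      rw [(hF.comm s hs).symm.eq, mul_inv_cancel_right, mul_one]⟩)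
    (S := Subgroup.zpowers f) (IsPGroup.of_card_dvd_pow (n := 1) (by
      rw [Nat.card_zpowers, pow_one]
      exact orderOf_dvd_of_pow_eq_one (by rw [pow_two, hop.mul_self hfD])))
    (Subgroup.zpowers_le.2 hfH)
  have htf := ht1 f hfD (Subgroup.mem_zpowers f)
  have htM : t ∈ M := mem_of_comm_mod hconj hF hB hne hN hr hx htC (one_mem R) hb (by
    rw [mul_one]; exact htb)
  have htg : t * g ∈ M := mem_of_fix hconj hF hB hne hN hr hx (mul_mem htC hg)
    (mul_mem (hB hb) htf) (by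
      rw [show x * (b * (t * f * t⁻¹)) = t * x * t⁻¹ * (t * f * t⁻¹) by rw [htb, ← mul_assoc x b],
        show (t * g)⁻¹ * (t * x * t⁻¹ * (t * f * t⁻¹)) * (t * g) = g⁻¹ * (x * f) * g by group]
      exact hxfg)
  have := mul_mem (inv_mem htM) htg
  rwa [inv_mul_cancel_left] at this

end CfsgLib.LocalEven.OnePointFront
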