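import Cfsg.Agent.Lib.LocalEven.OnePointFront.Local.Functor
import Cfsg.Agent.Lib.LocalEven.OnePointFront.Local.Quotient
import Cfsg.Agent.Lib.LocalEven.OnePointFront.Kernel
import Cfsg.Agent.Lib.LocalEven.OnePointFront.Full

/-!
# Local control for full data
-/

set_option autoImplicit false

namespace CfsgLib.LocalEven.OnePointFront

open MulAction CfsgLib.LocalEven.TIEndgame

universe u v

/-- Local control from the line facts. -/
theorem localControl {G : Type u} {Ω : Type v} [Group G] [Finite G] [MulAction G Ω] {D : Set G}
    {a : Ω} {x : G} {R P : Subgroup G} (h : ClosedSetting D Ω) (F : FullData D a x R P)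
    (L : LineFacts D a x R) : LocalControl a R :=
  localControl_of h.toOnePoint F L fun B _ M' hB hcard _ hh => le_antisymm hh.le <| by
    refine F.le_of_centralizers h hB (fun hle => ?_) hh.norm_le hh.cent hh.cent_bad
    have h1 := Subgroup.card_le_of_le hle
    have : 0 < Nat.card B := Nat.card_pos
    omega

end CfsgLib.LocalEven.OnePointFront
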