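import Cfsg.Agent.Lib.LocalEven.OnePointFront.Local.OddIn
import Cfsg.Agent.Lib.Components.SFT.Complete
import Cfsg.Agent.Lib.OddOrder.Final.Main
import Cfsg.Agent.Lib.Involution.ZStar.Main
import Cfsg.Agent.Lib.Involution.ZStar.Weakly
import Mathlib.GroupTheory.SchurZassenhaus

/-!
# Local control: the signalizer functor and its hull

For `B ≤ R` and `A = R⟨x⟩` the odd groups `[O(C(s)), R]`, extended by the odd cores of the
centralisers of `R` and `A`, form a signalizer functor on a complement of `B` in `A`.  Its closure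
gives a subgroup in which `R` is normal modulo an odd normal subgroup.
-/

set_option autoImplicit false
set_option linter.style.haveILetI false

namespace CfsgLib.LocalEven.OnePointFront

open MulAction Subgroup CfsgLib.LocalEven.TIEndgame CfsgLib.Involution
open scoped commutatorElement

universe u v

namespace Local

variable {G : Type u} {Ω : Type v} [Group G] [MulAction G Ω] [Finite G]

/-- The centraliser of `s` in the local group of `B`. -/
def locC (a : Ω) (B : Subgroup G) (s : G) : Subgroup G := localAt a B ⊓ centralizer {s}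

/-- The group `R⟨x⟩`. -/
def bigA (x : G) (R : Subgroup G) : Subgroup G := R ⊔ zpowers x

omit [Finite G] in
theorem mem_localAt {a : Ω} {B : Subgroup G} {g : G} :
    g ∈ localAt a B ↔ g • a = a ∧ ∀ b ∈ B, Commute b g := by
  simp [localAt, mem_centralizer_iff, Commute, SemiconjBy]

omit [Finite G] in
theorem mem_locC {a : Ω} {B : Subgroup G} {s g : G} :
    g ∈ locC a B s ↔ g ∈ localAt a B ∧ Commute s g := by
  simp [locC, mem_centralizer_iff, Commute, SemiconjBy]

omit [Finite G] in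
theorem localAt_sup_zpowers (a : Ω) (B : Subgroup G) (s : G) :
    localAt a (B ⊔ zpowers s) = locC a B s := by
  ext g
  simp only [localAt, locC, mem_inf, and_assoc]
  refine and_congr_right fun _ => ?_
  constructor
  · intro h
    exact ⟨mem_centralizer_iff.2 fun b hb => mem_centralizer_iff.1 h b (mem_sup_left hb),
      mem_centralizer_singleton_iff.2
        (mem_centralizer_iff.1 h s (mem_sup_right (mem_zpowers s))).symm⟩
  · rintro ⟨h1, h2⟩
    refine mem_centralizer_iff.2 fun y hy => ?_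
    have hle : B ⊔ zpowers s ≤ centralizer {g} := sup_le
      (fun b hb => mem_centralizer_singleton_iff.2 (mem_centralizer_iff.1 h1 b hb))
      (zpowers_le.2 (mem_centralizer_singleton_iff.2 (mem_centralizer_singleton_iff.1 h2).symm))
    exact mem_centralizer_singleton_iff.1 (hle hy)

/-- The data at a subgroup `B` of `R`. -/
structure Base (D : Set G) (a : Ω) (x : G) (R P B : Subgroup G) : Prop where
  one : OnePoint D Ω
  full : FullData D a x R P
  line : LineFacts D a x R
  le : B ≤ R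
  ih : ∀ B' : Subgroup G, B < B' → B' ≤ R → RControl (localAt a B') R

/-- The part of the functor centralised by `R`. -/
noncomputable def tail (a : Ω) (x : G) (R B : Subgroup G) (s : G) : Subgroup G :=
  @ite _ (s ∈ R) (Classical.propDecidable _)
    (oddIn (localAt a B ⊓ centralizer (R : Set G)) ⊔
      oddIn (localAt a B ⊓ centralizer (bigA x R : Set G)))
    (oddIn (localAt a B ⊓ centralizer (bigA x R : Set G)))

omit [Finite G] in
theorem tail_pos {a : Ω} {x : G} {R B : Subgroup G} {s : G} (h : s ∈ R) :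
    tail a x R B s = oddIn (localAt a B ⊓ centralizer (R : Set G)) ⊔
      oddIn (localAt a B ⊓ centralizer (bigA x R : Set G)) := if_pos h

omit [Finite G] in
theorem tail_neg {a : Ω} {x : G} {R B : Subgroup G} {s : G} (h : s ∉ R) :
    tail a x R B s = oddIn (localAt a B ⊓ centralizer (bigA x R : Set G)) := if_neg h

/-- The functor. -/
noncomputable def theta (a : Ω) (x : G) (R B : Subgroup G) (s : G) : Subgroup G :=
  ⁅oddIn (locC a B s), R⁆ ⊔ tail a x R B s

/-- The group generated by the commutators of `R` with the odd cores. -/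
def psi (a : Ω) (R B : Subgroup G) : Subgroup G :=
  ⨆ r : {r : G // r ∈ R ∧ r ∉ B}, ⁅oddIn (locC a B (r : G)), R⁆

/-- The odd core of the quotient by a central subgroup of exponent two lifts. -/
theorem mem_sup_oddCore {C : Type u} [Group C] [Finite C] (B : Subgroup C) [B.Normal]
    (hcen : ∀ b ∈ B, ∀ y : C, Commute b y) (hsq : ∀ b ∈ B, b * b = 1) {e : C}
    (he : QuotientGroup.mk' B e ∈ Cfsg.oddCore (C ⧸ B)) :
    ∃ b ∈ B, ∃ h ∈ Cfsg.oddCore C, b * h = e := by
  haveI : Fact (Nat.Prime 2) := ⟨Nat.prime_two⟩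
  haveI hON := ZStar.oddCore_normal (G := C ⧸ B)
  set N := (Cfsg.oddCore (C ⧸ B)).comap (QuotientGroup.mk' B) with hN
  haveI hNn : N.Normal := hON.comap _
  set M := B.subgroupOf N with hM
  have hker : B ≤ N := fun b hb => by
    show QuotientGroup.mk' B b ∈ Cfsg.oddCore _
    rw [QuotientGroup.mk'_apply, (QuotientGroup.eq_one_iff b).2 hb]; exact one_mem _
  have hMidx : Odd M.index := by
    have h1 : M.index = Nat.card (Cfsg.oddCore (C ⧸ B)) := by
      have h : (QuotientGroup.mk' B).ker.relIndex N =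
          Nat.card (N.map (QuotientGroup.mk' B)) := Subgroup.relIndex_ker N (QuotientGroup.mk' B)
      rw [QuotientGroup.ker_mk', hN,
        Subgroup.map_comap_eq_self_of_surjective (QuotientGroup.mk'_surjective B)] at h
      exact h
    rw [h1]; exact ZStar.odd_card_oddCore
  have hB2 : IsPGroup 2 B := fun b => ⟨1, Subtype.ext (by simpa [pow_two] using hsq b b.2)⟩
  obtain ⟨k, hk2⟩ := hB2.exists_card_eq
  have hMc : Nat.card M = 2 ^ k := by
    rw [hM, Nat.card_congr (subgroupOfEquivOfLe hker).toEquiv, hk2]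
  obtain ⟨H, hH⟩ := Subgroup.exists_right_complement'_of_coprime (N := M)
    (by rw [hMc]; exact (Nat.coprime_two_left.2 hMidx).pow_left k)
  have hHodd : Odd (Nat.card H) := by rw [← hH.symm.index_eq_card]; exact hMidx
  have hdec : ∀ n : C, n ∈ N → ∃ b ∈ B, ∃ h ∈ H.map N.subtype, b * h = n := fun n hn => by
    obtain ⟨⟨⟨b, hb⟩, ⟨h, hh⟩⟩, e'⟩ := hH.2 ⟨n, hn⟩
    exact ⟨b, hb, h, ⟨h, hh, rfl⟩, congrArg Subtype.val e'⟩
  have hKodd : Odd (Nat.card (H.map N.subtype)) := by
    rw [Coprime.card_map_subtype]; exact hHodd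
  have hKle : H.map N.subtype ≤ N := map_subtype_le H
  have hKn : ∀ c : C, ∀ y ∈ H.map N.subtype, c * y * c⁻¹ ∈ H.map N.subtype := by
    intro c y hy
    obtain ⟨b, hb, h, hh, e'⟩ := hdec _ (hNn.conj_mem _ (hKle hy) c)
    set m := Nat.card (H.map N.subtype)
    have hpm : ∀ w ∈ H.map N.subtype, w ^ m = 1 := fun w hw =>
      orderOf_dvd_iff_pow_eq_one.1 (Subgroup.orderOf_dvd_natCard _ hw)
    have hpow : (b * h) ^ m = 1 := by
      rw [e', conj_pow, hpm y hy, mul_one, mul_inv_cancel]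
    rw [(hcen b hb h).mul_pow, hpm h hh, mul_one] at hpow
    have hb1 : b = 1 := by
      obtain ⟨j, hj⟩ := hKodd
      rwa [hj, pow_succ, pow_mul, pow_two, hsq b hb, one_pow, one_mul] at hpow
    rw [hb1, one_mul] at e'
    exact e' ▸ hh
  have hKnormal : (H.map N.subtype).Normal := ⟨fun y hy c => hKn c y hy⟩
  obtain ⟨b, hb, h, hh, e'⟩ := hdec e he
  exact ⟨b, hb, h, ZStar.le_oddCore hKnormal hKodd hh, e'⟩

namespace Base

variable {D : Set G} {a : Ω} {x : G} {R P B : Subgroup G}

section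
variable (S : Base D a x R P B)
include S

omit [Finite G] in
theorem sq_x : x * x = 1 := by
  have := pow_orderOf_eq_one x
  rwa [S.full.bad.1, pow_two] at this

omit [Finite G] in
theorem inv_R {r : G} (hr : r ∈ R) : r⁻¹ = r := inv_eq_of_mul_eq_one_right (S.full.sq r hr)

omit [Finite G] in
theorem R_comm {r s : G} (hr : r ∈ R) (hs : s ∈ R) : Commute r s := by
  show r * s = s * r
  calc r * s = (r * s)⁻¹ := (S.inv_R (R.mul_mem hr hs)).symm
    _ = s * r := by rw [mul_inv_rev, S.inv_R hr, S.inv_R hs]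

omit [Finite G] in
theorem R_fix {r : G} (hr : r ∈ R) : r • a = a :=
  mem_stabilizer_iff.1 (S.full.top.2.1 (S.full.le hr))

omit [Finite G] in
theorem mem_R_of {d : G} (hd : d ∈ R) (hd1 : d ≠ 1) : d ∈ D :=
  (((S.full.mem_iff d).1 hd).resolve_left hd1).1

omit [Finite G] in
theorem x_notMem : x ∉ R := fun hx => by
  obtain ⟨hx2, p, p', hne, hp, hp'⟩ := S.full.bad
  have hx1 : x ≠ 1 := fun e => by simp [e] at hx2
  exact hne (S.one.fixed_unique x (S.mem_R_of hx hx1) p p' hp hp')

omit [Finite G] in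
theorem mem_bigA {s : G} : s ∈ bigA x R ↔ s ∈ R ∨ ∃ r ∈ R, s = x * r := by
  refine ⟨fun hs => ?_, ?_⟩
  · have hn : zpowers x ≤ normalizer (R : Set G) := zpowers_le.2 (centralizer_le_normalizer _
      (mem_centralizer_iff.2 fun r hr => (S.full.comm r hr).eq.symm))
    obtain ⟨r, hr, y, hy, rfl⟩ := (Coprime.mem_sup_of_le_normalizer hn).1 hs
    obtain ⟨i, rfl⟩ := mem_zpowers_iff.1 hy
    rcases Int.even_or_odd i with ⟨j, rfl⟩ | ⟨j, rfl⟩
    · left
      rwa [← two_mul, zpow_mul, zpow_two, S.sq_x, one_zpow, mul_one]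
    · right
      refine ⟨r, hr, ?_⟩
      rw [zpow_add, zpow_mul, zpow_two, S.sq_x, one_zpow, one_mul, zpow_one]
      exact (S.full.comm r hr).eq.symm
  · rintro (h | ⟨r, hr, rfl⟩)
    · exact mem_sup_left h
    · exact (bigA x R).mul_mem (mem_sup_right (mem_zpowers x)) (mem_sup_left hr)

omit [Finite G] in
theorem A_comm {s t : G} (hs : s ∈ bigA x R) (ht : t ∈ bigA x R) : Commute s t := by
  have h1 : ∀ r ∈ R, Commute r t := fun r hr => by
    rcases S.mem_bigA.1 ht with h | ⟨r', hr', rfl⟩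
    · exact S.R_comm hr h
    · exact (S.full.comm r hr).symm.mul_right (S.R_comm hr hr')
  have h2 : Commute x t := by
    rcases S.mem_bigA.1 ht with h | ⟨r', hr', rfl⟩
    · exact S.full.comm t h
    · exact (Commute.refl x).mul_right (S.full.comm r' hr')
  rcases S.mem_bigA.1 hs with h | ⟨r, hr, rfl⟩
  · exact h1 s h
  · exact h2.mul_left (h1 r hr)

omit [Finite G] in
theorem A_sq {s : G} (hs : s ∈ bigA x R) : s * s = 1 := by
  rcases S.mem_bigA.1 hs with h | ⟨r, hr, rfl⟩
  · exact S.full.sq s h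
  · rw [(S.full.comm r hr).symm.mul_mul_mul_comm, S.sq_x, S.full.sq r hr, one_mul]

omit [Finite G] in
theorem A_le : bigA x R ≤ localAt a B ⊓ centralizer (bigA x R : Set G) := fun t ht =>
  mem_inf.2 ⟨mem_localAt.2 ⟨by
      rcases S.mem_bigA.1 ht with h | ⟨r, hr, rfl⟩
      · exact S.R_fix h
      · rw [mul_smul, S.R_fix hr, S.full.fix],
    fun b hb => S.A_comm (mem_sup_left (S.le hb)) ht⟩,
    mem_centralizer_iff.2 fun s hs => (S.A_comm hs ht).eq⟩

omit [Finite G] in
theorem cA_le_cR : localAt a B ⊓ centralizer (bigA x R : Set G) ≤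
    localAt a B ⊓ centralizer (R : Set G) :=
  inf_le_inf_left _ (centralizer_le fun _ h => mem_sup_left (T := zpowers x) h)

omit [Finite G] in
theorem cA_le_locC {s : G} (hs : s ∈ bigA x R) :
    localAt a B ⊓ centralizer (bigA x R : Set G) ≤ locC a B s := fun _ hg =>
  mem_locC.2 ⟨hg.1, mem_centralizer_iff.1 hg.2 s hs⟩

omit [Finite G] in
theorem A_le_locC {s : G} (hs : s ∈ bigA x R) : bigA x R ≤ locC a B s :=
  S.A_le.trans (S.cA_le_locC hs)

omit [Finite G] in
theorem R_le_locC {s : G} (hs : s ∈ bigA x R) : R ≤ locC a B s :=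
  le_sup_left.trans (S.A_le_locC hs)

theorem R_normalises {s : G} (hs : s ∈ bigA x R) :
    R ≤ normalizer (oddIn (locC a B s) : Set G) :=
  (S.R_le_locC hs).trans (le_normalizer_oddIn _)

theorem comm_le {s : G} (hs : s ∈ bigA x R) : ⁅oddIn (locC a B s), R⁆ ≤ oddIn (locC a B s) :=
  le_normalizer_iff_commutator_le_left.1 (S.R_normalises hs)

/-- `R` is normal modulo the odd core in the centraliser of each element of `A` outside `B`. -/
theorem control {s : G} (hs : s ∈ bigA x R) (hsB : s ∉ B) : RControl (locC a B s) R := by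
  rcases S.mem_bigA.1 hs with hsR | ⟨r, hr, rfl⟩
  · rw [← localAt_sup_zpowers]
    refine S.ih _ (lt_of_le_of_ne le_sup_left fun e => hsB ?_) (sup_le S.le (zpowers_le.2 hsR))
    rw [e]
    exact mem_sup_right (mem_zpowers s)
  · intro g hg r' hr'
    rcases eq_or_ne r' 1 with rfl | h1
    · simp
    obtain ⟨hgC, hgv⟩ := mem_locC.1 hg
    obtain ⟨hga, hgB⟩ := mem_localAt.1 hgC
    set d := g * r' * g⁻¹ with hd
    have hr'C : r' ∈ locC a B (x * r) := S.R_le_locC hs hr'
    have hdC : d ∈ locC a B (x * r) := (locC a B (x * r)).mul_mem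
      ((locC a B (x * r)).mul_mem hg hr'C) ((locC a B (x * r)).inv_mem hg)
    obtain ⟨hdC', hdv⟩ := mem_locC.1 hdC
    obtain ⟨k, hk, hkd⟩ := S.line.mem r hr d
      ⟨S.one.conj_mem g r' (S.mem_R_of hr' h1), (mem_localAt.1 hdC').1⟩ hdv
    set v := x * r with hv
    set K := lineKer D Ω v ⊓ localAt a B with hK
    have hKle : K ≤ locC a B v := fun y hy => mem_locC.2 ⟨hy.2, by
      have hy' : y ∈ coreOf D (centralizer {v}) := hy.1.1
      have : coreOf D (centralizer {v}) ≤ centralizer {v} :=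
        (closure_le _).2 fun z hz => hz.2
      exact (mem_centralizer_singleton_iff.1 (this hy')).symm⟩
    have hKn : locC a B v ≤ normalizer (K : Set G) := by
      intro c hc
      obtain ⟨hcC, hcv⟩ := mem_locC.1 hc
      refine Coprime.mem_normalizer_of_conj_map_le fun y hy => mem_inf.2 ⟨mem_inf.2 ⟨?_, ?_⟩,
        (localAt a B).mul_mem ((localAt a B).mul_mem hcC hy.2) ((localAt a B).inv_mem hcC)⟩
      · have hle : coreOf D (centralizer {v}) ≤
            (coreOf D (centralizer {v})).comap (MulAut.conj c).toMonoidHom :=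
          (closure_le _).2 fun z hz => subset_closure ⟨S.one.conj_mem c z hz.1,
            (centralizer {v}).mul_mem ((centralizer {v}).mul_mem
              (mem_centralizer_singleton_iff.2 hcv.eq.symm) hz.2)
              ((centralizer {v}).inv_mem (mem_centralizer_singleton_iff.2 hcv.eq.symm))⟩
        exact hle hy.1.1
      · refine (mem_fixingSubgroup_iff G).2 fun p hp => ?_
        have hp' : c⁻¹ • p ∈ fixedBy Ω v := by
          show v • c⁻¹ • p = c⁻¹ • p
          rw [smul_smul, (hcv.inv_right).eq, mul_smul, show v • p = p from hp]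
        rw [mul_smul, mul_smul, (mem_fixingSubgroup_iff G).1 hy.1.2 _ hp', smul_inv_smul]
    have hkC : k ∈ localAt a B := by
      refine mem_localAt.2 ⟨(mem_fixingSubgroup_iff G).1 hk.2 a ?_, fun b hb => ?_⟩
      · show v • a = a
        rw [hv, mul_smul, S.R_fix hr, S.full.fix]
      · have e : k = k * d * d⁻¹ := by group
        rw [e]
        exact (S.R_comm (S.le hb) hkd).mul_right ((mem_localAt.1 hdC').2 b hb).inv_right
    have hkO : k ∈ oddIn (locC a B v) := le_oddIn hKle hKn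
      (Odd.of_dvd_nat (S.line.odd r hr) (card_dvd_of_le inf_le_left)) ⟨hk, hkC⟩
    have e : d = k⁻¹ * (k * d) := by group
    rw [e]
    exact mul_mem_sup ((oddIn _).inv_mem hkO) hkd

theorem conj_comm_mem {s g y : G} (hg : g ∈ locC a B s) (hgR : g ∈ centralizer (R : Set G))
    (hy : y ∈ ⁅oddIn (locC a B s), R⁆) : g * y * g⁻¹ ∈ ⁅oddIn (locC a B s), R⁆ := by
  have h : ⁅oddIn (locC a B s), R⁆.map (MulAut.conj g).toMonoidHom =
      ⁅oddIn (locC a B s), R⁆ := by
    rw [map_commutator,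
      Coprime.conj_map_eq_self_of_mem_normalizer (le_normalizer_oddIn _ hg),
      Coprime.conj_map_eq_self_of_mem_normalizer (centralizer_le_normalizer _ hgR)]
  rw [← h]
  exact ⟨y, hy, rfl⟩

theorem tail_le {s : G} (hs : s ∈ bigA x R) :
    tail a x R B s ≤ locC a B s ⊓ centralizer (R : Set G) := by
  have hA := (oddIn_le (localAt a B ⊓ centralizer (bigA x R : Set G))).trans
    (le_inf (S.cA_le_locC hs) (S.cA_le_cR.trans inf_le_right))
  by_cases hsR : s ∈ R
  · rw [tail_pos hsR]
    refine sup_le ((oddIn_le _).trans (le_inf (fun g hg => mem_locC.2 ⟨hg.1, ?_⟩) inf_le_right)) hA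
    exact mem_centralizer_iff.1 hg.2 s hsR
  · rw [tail_neg hsR]; exact hA

theorem tail_odd (s : G) : Odd (Nat.card (tail a x R B s)) := by
  by_cases hsR : s ∈ R
  · rw [tail_pos hsR]
    exact odd_card_sup (((oddIn_le _).trans S.cA_le_cR).trans (le_normalizer_oddIn _))
      (odd_card_oddIn _) (odd_card_oddIn _)
  · rw [tail_neg hsR]; exact odd_card_oddIn _

theorem tail_le_normalizer {s : G} (hs : s ∈ bigA x R) :
    tail a x R B s ≤ normalizer ((⁅oddIn (locC a B s), R⁆ : Subgroup G) : Set G) := fun g hg =>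
  Coprime.mem_normalizer_of_conj_map_le fun _ hy =>
    S.conj_comm_mem (S.tail_le hs hg).1 (S.tail_le hs hg).2 hy

theorem theta_le {s : G} (hs : s ∈ bigA x R) : theta a x R B s ≤ locC a B s :=
  sup_le ((S.comm_le hs).trans (oddIn_le _)) ((S.tail_le hs).trans inf_le_left)

theorem theta_odd {s : G} (hs : s ∈ bigA x R) : Odd (Nat.card (theta a x R B s)) :=
  odd_card_sup (S.tail_le_normalizer hs)
    (Odd.of_dvd_nat (odd_card_oddIn _) (card_dvd_of_le (S.comm_le hs))) (S.tail_odd s)

theorem cA_conj_theta {s g y : G} (hs : s ∈ bigA x R)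
    (hg : g ∈ localAt a B ⊓ centralizer (bigA x R : Set G)) (hy : y ∈ theta a x R B s) :
    g * y * g⁻¹ ∈ theta a x R B s := by
  refine conj_mem_sup (fun u hu => mem_sup_left
    (S.conj_comm_mem (S.cA_le_locC hs hg) (S.cA_le_cR hg).2 hu)) (fun u hu => mem_sup_right ?_) hy
  by_cases hsR : s ∈ R
  · rw [tail_pos hsR] at hu ⊢
    exact conj_mem_sup (fun w hw => mem_sup_left (conj_mem_oddIn (S.cA_le_cR hg) hw))
      (fun w hw => mem_sup_right (conj_mem_oddIn hg hw)) hu
  · rw [tail_neg hsR] at hu ⊢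
    exact conj_mem_oddIn hg hu

theorem balance {s t : G} (hs : s ∈ bigA x R) (ht : t ∈ bigA x R) (htB : t ∉ B) :
    theta a x R B s ⊓ centralizer {t} ≤ theta a x R B t := by
  set X := theta a x R B s ⊓ centralizer {t} with hX
  have hXt : X ≤ locC a B t := fun y hy => ⟨(S.theta_le hs hy.1).1, hy.2⟩
  have hXodd : Odd (Nat.card X) := Odd.of_dvd_nat (S.theta_odd hs) (card_dvd_of_le inf_le_left)
  have hRX : R ≤ normalizer (X : Set G) := fun r hr =>
    Coprime.mem_normalizer_of_conj_map_le fun y hy => mem_inf.2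
      ⟨S.cA_conj_theta hs (S.A_le (mem_sup_left hr)) hy.1,
        (centralizer {t}).mul_mem ((centralizer {t}).mul_mem (S.R_le_locC ht hr).2 hy.2)
          ((centralizer {t}).inv_mem (S.R_le_locC ht hr).2)⟩
  have hcop : (Nat.card R).Coprime (Nat.card X) := by
    haveI : Fact (Nat.Prime 2) := ⟨Nat.prime_two⟩
    obtain ⟨k, hk⟩ := (S.full.top.1.to_le S.full.le).exists_card_eq
    rw [hk]
    exact (Nat.coprime_two_left.2 hXodd).pow_left k
  have hsolv : Group.IsSolvable R ∨ Group.IsSolvable X :=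
    Or.inr (OddOrder.Final.oddSolvable X hXodd)
  rw [← Coprime.commutator_sup_centralizer hRX hcop hsolv]
  refine sup_le (le_trans ?_ le_sup_left) fun y hy => ?_
  · rw [← Coprime.commutator_commutator_self hRX hcop hsolv]
    refine commutator_mono (commutator_le.2 fun y hy r hr => ?_) le_rfl
    have h2 : ⁅y, r⁆ ∈ X :=
      le_normalizer_iff_commutator_le_left.1 hRX (commutator_mem_commutator hy hr)
    refine mem_left_of_odd (S.R_normalises ht) S.full.sq
      (Odd.of_dvd_nat hXodd (Subgroup.orderOf_dvd_natCard X h2)) ?_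
    rw [commutatorElement_def]
    exact mul_mem (S.control ht htB y (hXt hy) r hr) (mem_sup_right (R.inv_mem hr))
  · obtain ⟨⟨hyθ, hyt⟩, hyR⟩ := mem_inf.1 hy
    by_cases hboth : s ∈ R ∧ t ∈ R
    · obtain ⟨hsR, htR⟩ := hboth
      obtain ⟨c, hc, w, hw, rfl⟩ :=
        (Coprime.mem_sup_of_le_normalizer (S.tail_le_normalizer hs)).1 hyθ
      have hts : tail a x R B t = tail a x R B s := by rw [tail_pos hsR, tail_pos htR]
      refine mem_sup_right ?_
      rw [hts]
      refine mul_mem ?_ hw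
      have hcR : c ∈ centralizer (R : Set G) := by
        have := (centralizer (R : Set G)).mul_mem hyR
          ((centralizer (R : Set G)).inv_mem (S.tail_le hs hw).2)
        rwa [mul_inv_cancel_right] at this
      rw [tail_pos hsR]
      refine mem_sup_left (le_oddIn ?_ ?_ ?_
        (show c ∈ ⁅oddIn (locC a B s), R⁆ ⊓ centralizer (R : Set G) from ⟨hc, hcR⟩))
      · exact fun u hu => ⟨(oddIn_le _ (S.comm_le hs hu.1)).1, hu.2⟩
      · intro g hg
        have hgs : g ∈ locC a B s := mem_locC.2 ⟨hg.1, mem_centralizer_iff.1 hg.2 s hsR⟩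
        exact Coprime.mem_normalizer_of_conj_map_le fun u hu => mem_inf.2
          ⟨S.conj_comm_mem hgs hg.2 hu.1,
            (centralizer (R : Set G)).mul_mem ((centralizer (R : Set G)).mul_mem hg.2 hu.2)
              ((centralizer (R : Set G)).inv_mem hg.2)⟩
      · exact Odd.of_dvd_nat (odd_card_oddIn _)
          (card_dvd_of_le (inf_le_left.trans (S.comm_le hs)))
    · have hR' : ∀ r ∈ R, Commute r y := fun r hr => mem_centralizer_iff.1 hyR r hr
      have hys : Commute s y := (mem_locC.1 (S.theta_le hs hyθ)).2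
      have hyt' : Commute t y := (mem_centralizer_singleton_iff.1 hyt).symm
      have hout : ∀ v ∈ bigA x R, v ∉ R → Commute v y → Commute x y := fun v hv hvR hvy => by
        obtain ⟨r, hr, rfl⟩ := (S.mem_bigA.1 hv).resolve_left hvR
        simpa [mul_assoc, S.full.sq r hr] using hvy.mul_left (hR' r hr)
      have hxy : Commute x y := by
        by_cases hsR : s ∈ R
        · exact hout t ht (fun h => hboth ⟨hsR, h⟩) hyt'
        · exact hout s hs hsR hys
      have hyA : y ∈ localAt a B ⊓ centralizer (bigA x R : Set G) := by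
        refine mem_inf.2 ⟨(S.theta_le hs hyθ).1, mem_centralizer_iff.2 fun v hv => ?_⟩
        rcases S.mem_bigA.1 hv with h | ⟨r, hr, rfl⟩
        · exact hR' v h
        · exact hxy.mul_left (hR' r hr)
      refine mem_sup_right ?_
      have hz : y ∈ oddIn (localAt a B ⊓ centralizer (bigA x R : Set G)) := by
        refine le_oddIn (N := theta a x R B s ⊓
          (localAt a B ⊓ centralizer (bigA x R : Set G))) inf_le_right ?_
          (Odd.of_dvd_nat (S.theta_odd hs) (card_dvd_of_le inf_le_left)) ⟨hyθ, hyA⟩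
        exact fun g hg => Coprime.mem_normalizer_of_conj_map_le fun u hu => mem_inf.2
          ⟨S.cA_conj_theta hs hg hu.1,
            Subgroup.mul_mem _ (Subgroup.mul_mem _ hg hu.2) (Subgroup.inv_mem _ hg)⟩
      by_cases htR : t ∈ R
      · rw [tail_pos htR]; exact mem_sup_right hz
      · rw [tail_neg htR]; exact hz

theorem exists_compl :
    ∃ A₀ : Subgroup G, A₀ ≤ bigA x R ∧ A₀ ⊓ B = ⊥ ∧ A₀ ⊔ B = bigA x R := by
  obtain ⟨A₀, ⟨h1, h2⟩, hmax⟩ := Set.Finite.exists_maximalFor (fun H : Subgroup G => Nat.card H)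
    {A₀ : Subgroup G | A₀ ≤ bigA x R ∧ A₀ ⊓ B = ⊥} (Set.toFinite _) ⟨⊥, bot_le, bot_inf_eq B⟩
  refine ⟨A₀, h1, h2, le_antisymm (sup_le h1 (S.le.trans le_sup_left)) fun s hs => ?_⟩
  by_contra hsn
  have hsz : zpowers s ≤ bigA x R := zpowers_le.2 hs
  have hn : zpowers s ≤ normalizer (A₀ : Set G) := zpowers_le.2 (centralizer_le_normalizer _
    (mem_centralizer_iff.2 fun c hc => (S.A_comm (h1 hc) hs).eq))
  have hb : (A₀ ⊔ zpowers s) ⊓ B = ⊥ := by
    rw [eq_bot_iff]
    rintro b ⟨hb, hbB⟩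
    obtain ⟨c, hc, y, hy, rfl⟩ := (Coprime.mem_sup_of_le_normalizer hn).1 hb
    obtain ⟨i, rfl⟩ := mem_zpowers_iff.1 hy
    rcases Int.even_or_odd i with ⟨j, rfl⟩ | ⟨j, rfl⟩
    · rw [← two_mul, zpow_mul, zpow_two, S.A_sq hs, one_zpow, mul_one] at hbB ⊢
      have : c ∈ A₀ ⊓ B := ⟨hc, hbB⟩
      rwa [h2] at this
    · refine absurd ?_ hsn
      rw [zpow_add, zpow_mul, zpow_two, S.A_sq hs, one_zpow, one_mul, zpow_one] at hbB
      have := mul_mem_sup (A₀.inv_mem hc) hbB
      rwa [inv_mul_cancel_left] at this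
  have hle : Nat.card ↥(A₀ ⊔ zpowers s) ≤ Nat.card A₀ :=
    hmax ⟨sup_le h1 hsz, hb⟩ (Subgroup.card_le_of_le le_sup_left)
  have := Subgroup.eq_of_le_of_card_ge le_sup_left hle
  refine hsn (mem_sup_left ?_)
  rw [this]
  exact mem_sup_right (mem_zpowers s)

theorem psi_odd (hcard : 4 * Nat.card B ≤ Nat.card R) : Odd (Nat.card (psi a R B)) := by
  haveI : Fact (Nat.Prime 2) := ⟨Nat.prime_two⟩
  obtain ⟨A₀, h1, h2, h3⟩ := S.exists_compl
  have hel : Cfsg.IsElementaryAbelian 2 A₀ :=
    ⟨⟨⟨fun u v => Subtype.ext (S.A_comm (h1 u.2) (h1 v.2)).eq⟩⟩,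
      fun u hu => by rw [pow_two]; exact S.A_sq (h1 hu)⟩
  have hBn : B ≤ normalizer (A₀ : Set G) := fun b hb => centralizer_le_normalizer _
    (mem_centralizer_iff.2 fun c hc => (S.A_comm (h1 hc) (mem_sup_left (S.le hb))).eq)
  have hbig : 2 ^ 3 ≤ Nat.card A₀ := by
    have e := Coprime.card_sup_of_le_normalizer hBn (disjoint_iff.2 h2)
    rw [h3] at e
    have hlt : 2 * Nat.card R ≤ Nat.card ↥(bigA x R) := by
      have hle : R ≤ bigA x R := le_sup_left
      have hd := Subgroup.card_dvd_of_le hle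
      obtain ⟨k, hk⟩ := hd
      have : k ≠ 1 := fun hk1 => S.x_notMem (by
        rw [Subgroup.eq_of_le_of_card_ge hle (by rw [hk, hk1, mul_one])]
        exact mem_sup_right (mem_zpowers x))
      have h0 : 0 < Nat.card ↥(bigA x R) := Nat.card_pos
      rcases k with _ | _ | k
      · rw [hk, mul_zero] at h0; exact absurd h0 (lt_irrefl 0)
      · exact absurd rfl this
      · rw [hk]; nlinarith [Nat.zero_le (Nat.card R * k)]
    have hB0 : 0 < Nat.card B := Nat.card_pos
    nlinarith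
  have hnB : ∀ u ∈ A₀, u ≠ 1 → u ∉ B := fun u hu hu1 huB => hu1 (by
    have : u ∈ A₀ ⊓ B := ⟨hu, huB⟩
    rwa [h2] at this)
  have hfun : Cfsg.IsSolvableSignalizerFunctor 2 A₀ (theta a x R B) :=
    ⟨⟨fun u hu _ => (S.theta_le (h1 hu)).trans inf_le_right,
      fun u hu _ => Nat.two_dvd_ne_zero.2 (Nat.odd_iff.1 (S.theta_odd (h1 hu))),
      fun u hu _ b hb y hy => S.cA_conj_theta (h1 hu) (S.A_le (h1 hb)) hy,
      fun u hu _ b hb hb1 => S.balance (h1 hu) (h1 hb) (hnB b hb hb1)⟩,
      fun u hu _ => OddOrder.Final.oddSolvable _ (S.theta_odd (h1 hu))⟩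
  have hΘ := (Components.SFT.solvable_complete hel hbig hfun).1.2.1
  refine Odd.of_dvd_nat (Nat.not_even_iff_odd.1 fun he => hΘ (even_iff_two_dvd.1 he))
    (card_dvd_of_le (iSup_le ?_))
  rintro ⟨r, hr, hrB⟩
  have hrA : r ∈ A₀ ⊔ B := by rw [h3]; exact mem_sup_left hr
  obtain ⟨c, hc, b, hb, rfl⟩ := (Coprime.mem_sup_of_le_normalizer hBn).1 hrA
  have hc1 : c ≠ 1 := fun e => hrB (by rw [e, one_mul]; exact hb)
  have he : locC a B (c * b) = locC a B c := by
    ext g
    simp only [mem_locC]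
    refine and_congr_right fun hg => ⟨fun h => ?_, fun h => h.mul_left ((mem_localAt.1 hg).2 b hb)⟩
    have := h.mul_left ((mem_localAt.1 hg).2 b hb).inv_left
    rwa [mul_inv_cancel_right] at this
  show ⁅oddIn (locC a B (c * b)), R⁆ ≤ _
  rw [he]
  exact le_trans le_sup_left
    (le_iSup (fun u : {u : G // u ∈ A₀ ∧ u ≠ 1} => theta a x R B (u : G)) ⟨c, hc, hc1⟩)

omit [Finite G] in
theorem comm_le_psi {r : G} (hr : r ∈ R) (hrB : r ∉ B) :
    ⁅oddIn (locC a B r), R⁆ ≤ psi a R B :=
  le_iSup (fun r : {r : G // r ∈ R ∧ r ∉ B} => ⁅oddIn (locC a B (r : G)), R⁆) ⟨r, hr, hrB⟩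

theorem psi_le : psi a R B ≤ localAt a B := iSup_le fun r =>
  (S.comm_le (mem_sup_left r.2.1)).trans ((oddIn_le _).trans inf_le_left)

theorem normalises_psi : localAt a B ⊓ normalizer (R : Set G) ≤ normalizer (psi a R B : Set G) := by
  rintro g ⟨hgC, hgR⟩
  refine Coprime.mem_normalizer_of_conj_map_le ?_
  have hle : (psi a R B).map (MulAut.conj g).toMonoidHom ≤ psi a R B := by
    rw [psi, Subgroup.map_iSup]
    refine iSup_le fun r => ?_
    obtain ⟨r, hr, hrB⟩ := r
    have hr' : g * r * g⁻¹ ∈ R := (mem_normalizer_iff.1 hgR r).1 hr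
    have hr'B : g * r * g⁻¹ ∉ B := fun h => hrB (by
      have e := ((mem_localAt.1 hgC).2 _ h).eq
      have : g * r * g⁻¹ = r := mul_left_cancel (a := g) (by rw [← e]; group)
      rwa [this] at h)
    show (⁅oddIn (locC a B r), R⁆).map _ ≤ _
    rw [map_commutator, Coprime.conj_map_eq_self_of_mem_normalizer hgR]
    refine le_trans (commutator_mono (Coprime.conj_map_le_iff.2 fun y hy => ?_) le_rfl)
      (S.comm_le_psi hr' hr'B)
    refine conj_oddIn_mem (fun c => ?_) hy
    simp only [mem_locC]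
    refine and_congr ⟨fun h => ?_, fun h =>
      Subgroup.mul_mem _ (Subgroup.mul_mem _ hgC h) (Subgroup.inv_mem _ hgC)⟩ ?_
    · have := Subgroup.mul_mem _ (Subgroup.mul_mem _ (Subgroup.inv_mem _ hgC) h) hgC
      rwa [show g⁻¹ * (g * c * g⁻¹) * g = c by group] at this
    · exact SemiconjBy.conj_iff
  exact fun y hy => hle ⟨y, hy, rfl⟩

/-- The centraliser of a bad element `x r` lies in every subgroup containing `localAt a B ⊓ N(R)`
and the centralisers of the elements of `R` outside `B`. -/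
theorem cent_bad_le (hcard : 4 * Nat.card B ≤ Nat.card R) {M' : Subgroup G}
    (hN : localAt a B ⊓ normalizer (R : Set G) ≤ M')
    (hr : ∀ r ∈ R, r ∉ B → localAt a B ⊓ centralizer {r} ≤ M') {r : G} (hrR : r ∈ R) :
    localAt a B ⊓ centralizer {x * r} ≤ M' := by
  haveI : Fact (Nat.Prime 2) := ⟨Nat.prime_two⟩
  have hvA : x * r ∈ bigA x R :=
    (bigA x R).mul_mem (mem_sup_right (mem_zpowers x)) (mem_sup_left hrR)
  have hvB : x * r ∉ B := fun h => S.x_notMem (by
    have := R.mul_mem (S.le h) (R.inv_mem hrR)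
    rwa [mul_inv_cancel_right] at this)
  intro g hg
  set U := oddIn (locC a B (x * r)) with hU
  -- `U` lies in `M'`
  obtain ⟨A₀, h1, h2, h3⟩ := S.exists_compl
  set A₁ := A₀ ⊓ R with hA₁
  have h12 : A₁ ⊓ B = ⊥ := eq_bot_iff.2 ((inf_le_inf_right B inf_le_left).trans h2.le)
  have hBn : ∀ {A' : Subgroup G}, A' ≤ bigA x R → B ≤ normalizer (A' : Set G) := fun hA' b hb =>
    centralizer_le_normalizer _ (mem_centralizer_iff.2 fun c hc =>
      (S.A_comm (hA' hc) (mem_sup_left (S.le hb))).eq)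
  have h13 : A₁ ⊔ B = R := le_antisymm (sup_le inf_le_right S.le) fun y hy => by
    obtain ⟨c, hc, b, hb, e⟩ := (Coprime.mem_sup_of_le_normalizer (hBn h1)).1
      (h3.symm ▸ mem_sup_left hy : y ∈ A₀ ⊔ B)
    have hcR : c ∈ R := by
      rw [show c = y * b⁻¹ by rw [← e, mul_inv_cancel_right]]
      exact R.mul_mem hy (R.inv_mem (S.le hb))
    rw [← e]; exact mul_mem_sup ⟨hc, hcR⟩ hb
  have hsq : ∀ y ∈ A₁, y * y = 1 := fun y hy => S.full.sq y hy.2
  haveI : IsMulCommutative A₁ := ⟨⟨fun u v => Subtype.ext (S.R_comm u.2.2 v.2.2).eq⟩⟩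
  have hnc : ¬ IsCyclic A₁ := fun hc => by
    obtain ⟨w, hw⟩ := hc.exists_generator
    have hle : Nat.card A₁ ≤ 2 := by
      rw [← orderOf_eq_card_of_forall_mem_zpowers hw]
      exact Nat.le_of_dvd two_pos (orderOf_dvd_of_pow_eq_one
        (by rw [pow_two]; exact Subtype.ext (hsq w w.2)))
    have e := Coprime.card_sup_of_le_normalizer (hBn (inf_le_left.trans h1)) (disjoint_iff.2 h12)
    rw [h13] at e
    have : 0 < Nat.card B := Nat.card_pos
    nlinarith
  have hAU : A₁ ≤ normalizer (U : Set G) := inf_le_right.trans (S.R_normalises hvA)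
  have hcop : (Nat.card A₁).Coprime (Nat.card U) := by
    obtain ⟨k, hk⟩ := (S.full.top.1.to_le (inf_le_right.trans S.full.le)).exists_card_eq
    rw [hk]
    exact (Nat.coprime_two_left.2 (odd_card_oddIn _)).pow_left k
  have hUM : U ≤ M' := by
    rw [← Coprime.iSup_centralizer_singleton hnc hAU hcop]
    refine iSup₂_le fun s hs => le_trans (inf_le_inf_right _ ((oddIn_le _).trans inf_le_left))
      (hr s hs.1.2 fun hsB => hs.2 ?_)
    have : s ∈ A₁ ⊓ B := ⟨hs.1, hsB⟩
    rwa [h12] at this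
  have hctl := S.control hvA hvB g hg
  have hn : R.map (MulAut.conj g).toMonoidHom ≤ normalizer (U : Set G) :=
    Coprime.conj_map_normalizer_le (le_normalizer_oddIn _ hg) (S.R_normalises hvA)
  obtain ⟨k, hk⟩ := (S.full.top.1.to_le S.full.le).exists_card_eq
  obtain ⟨n, hnU, hne⟩ := Coprime.exists_conj_eq
    (Or.inl (OddOrder.Final.oddSolvable _ (odd_card_oddIn _))) hn (S.R_normalises hvA)
    (Coprime.conj_map_le_iff.2 hctl) (Coprime.card_conj_map R g)
    (by rw [Coprime.card_conj_map, hk]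
        exact (Nat.coprime_two_right.2 (odd_card_oddIn _)).pow_right k)
  rw [Coprime.conj_map_map] at hne
  have hng : n * g ∈ M' := hN (mem_inf.2 ⟨(localAt a B).mul_mem
    ((oddIn_le _).trans inf_le_left hnU) hg.1, mem_normalizer_iff_map_conj_eq.2 hne⟩)
  have := M'.mul_mem (M'.inv_mem (hUM hnU)) hng
  rwa [inv_mul_cancel_left] at this

/-- The centraliser of an element of `R` outside `B` lies in the hull. -/
theorem cent_le {r : G} (hr : r ∈ R) (hrB : r ∉ B) :
    localAt a B ⊓ centralizer {r} ≤ psi a R B ⊔ (localAt a B ⊓ normalizer (R : Set G)) := by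
  intro g hg
  have hrA : r ∈ bigA x R := mem_sup_left hr
  have hctl := S.control hrA hrB g hg
  set U := oddIn (locC a B r) with hU
  have hn : R.map (MulAut.conj g).toMonoidHom ≤ normalizer (U : Set G) :=
    Coprime.conj_map_normalizer_le (le_normalizer_oddIn _ hg) (S.R_normalises hrA)
  have hcop : (Nat.card U).Coprime (Nat.card R) := by
    haveI : Fact (Nat.Prime 2) := ⟨Nat.prime_two⟩
    obtain ⟨k, hk⟩ := (S.full.top.1.to_le S.full.le).exists_card_eq
    rw [hk]
    exact (Nat.coprime_two_right.2 (odd_card_oddIn _)).pow_right k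
  have hsolv : Group.IsSolvable U := OddOrder.Final.oddSolvable _ (odd_card_oddIn _)
  obtain ⟨n, hnU, hne⟩ := Coprime.exists_conj_eq (Or.inl hsolv) hn (S.R_normalises hrA)
    (Coprime.conj_map_le_iff.2 hctl) (Coprime.card_conj_map R g)
    (by rw [Coprime.card_conj_map]; exact hcop)
  rw [Coprime.conj_map_map] at hne
  have hdec := Coprime.commutator_sup_centralizer (S.R_normalises hrA) hcop.symm (Or.inr hsolv)
  have hcn : U ⊓ centralizer (R : Set G) ≤ normalizer ((⁅U, R⁆ : Subgroup G) : Set G) := fun w hw =>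
    Coprime.mem_normalizer_of_conj_map_le fun _ hy =>
      S.conj_comm_mem (oddIn_le _ hw.1) hw.2 hy
  rw [← hU] at hdec
  rw [← hdec] at hnU
  obtain ⟨w, hw, c, hc, e⟩ : ∃ w ∈ U ⊓ centralizer (R : Set G), ∃ c ∈ ⁅U, R⁆, w * c = n := by
    obtain ⟨c, hc, w, hw, e⟩ := (Coprime.mem_sup_of_le_normalizer hcn).1 hnU
    exact ⟨w, hw, w⁻¹ * c * w⁻¹⁻¹,
      (mem_normalizer_iff.1 (inv_mem (hcn hw)) c).1 hc, by rw [← e]; group⟩
  have hcψ : c ∈ psi a R B := S.comm_le_psi hr hrB hc
  have hcg : c * g ∈ localAt a B ⊓ normalizer (R : Set G) := by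
    refine mem_inf.2 ⟨(localAt a B).mul_mem (S.psi_le hcψ) hg.1, ?_⟩
    have h1 : n * g ∈ normalizer (R : Set G) := mem_normalizer_iff_map_conj_eq.2 hne
    have h2 : c * g = w⁻¹ * (n * g) := by rw [← e]; group
    rw [h2]
    exact mul_mem (inv_mem (centralizer_le_normalizer _ hw.2)) h1
  have := mul_mem_sup ((psi a R B).inv_mem hcψ) hcg
  rwa [inv_mul_cancel_left] at this

/-- The hull of `B`. -/
theorem hull (hcard : 4 * Nat.card B ≤ Nat.card R) :
    LocalHull a x R B (psi a R B) (psi a R B ⊔ (localAt a B ⊓ normalizer (R : Set G))) := by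
  have hRN : R ≤ localAt a B ⊓ normalizer (R : Set G) :=
    le_inf (le_sup_left.trans (S.A_le.trans inf_le_left)) le_normalizer
  refine ⟨S.psi_odd hcard, le_sup_left, sup_le S.psi_le inf_le_left,
    sup_le le_normalizer S.normalises_psi, hRN.trans le_sup_right, mem_sup_right ⟨?_, ?_⟩, ?_, le_sup_right, ?_, ?_⟩
  · exact (S.A_le (mem_sup_right (mem_zpowers x))).1
  · exact centralizer_le_normalizer _ (mem_centralizer_iff.2 fun r hr => (S.full.comm r hr).eq.symm)
  · intro g hg r hr
    obtain ⟨ψ, hψ, n, hn, rfl⟩ := (Coprime.mem_sup_of_le_normalizer S.normalises_psi).1 hg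
    have hr' : n * r * n⁻¹ ∈ R := (mem_normalizer_iff.1 hn.2 r).1 hr
    have hc : (n * r * n⁻¹) * ψ⁻¹ * (n * r * n⁻¹)⁻¹ ∈ psi a R B :=
      (mem_normalizer_iff.1 (S.normalises_psi (hRN hr')) _).1 ((psi a R B).inv_mem hψ)
    have e : ψ * n * r * (ψ * n)⁻¹ =
        ψ * ((n * r * n⁻¹) * ψ⁻¹ * (n * r * n⁻¹)⁻¹) * (n * r * n⁻¹) := by group
    rw [e]
    exact mul_mem_sup ((psi a R B).mul_mem hψ hc) hr'
  · exact fun r hr hrB => S.cent_le hr hrB
  · exact fun r hr => S.cent_bad_le hcard le_sup_right (fun s hs hsB => S.cent_le hs hsB) hr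

/-- The case of index at most two. -/
theorem rcontrol_small (hcard : Nat.card R < 4 * Nat.card B) : RControl (localAt a B) R := by
  haveI : Fact (Nat.Prime 2) := ⟨Nat.prime_two⟩
  intro g hg r₀ hr₀
  by_cases hr₀B : r₀ ∈ B
  · have e : g * r₀ * g⁻¹ = r₀ := by
      rw [← ((mem_localAt.1 hg).2 r₀ hr₀B).eq, mul_inv_cancel_right]
    rw [e]; exact mem_sup_right hr₀
  set C := localAt a B with hC
  have hRC : R ≤ C := le_sup_left.trans (S.A_le.trans inf_le_left)
  have hBC : B ≤ C := S.le.trans hRC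
  have hidx : B.relIndex R = 2 := by
    have h1 := Coprime.card_mul_relIndex' S.le
    have h0 : 0 < Nat.card B := Nat.card_pos
    obtain ⟨k, hk⟩ := (S.full.top.1.to_le S.full.le).exists_card_eq
    have hd : B.relIndex R ∣ 2 ^ k := hk ▸ Dvd.intro_left _ h1
    obtain ⟨i, -, hi⟩ := (Nat.dvd_prime_pow Nat.prime_two).1 hd
    rw [hi] at h1 ⊢
    match i with
    | 0 =>
      exact absurd (Subgroup.eq_of_le_of_card_ge S.le (by rw [← h1, pow_zero, mul_one]) ▸ hr₀) hr₀B
    | 1 => rfl
    | i + 2 =>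
      exfalso
      have : 4 ≤ 2 ^ (i + 2) := Nat.pow_le_pow_right two_pos (by omega : 2 ≤ i + 2)
      nlinarith
  set B' := B.subgroupOf C with hB'
  haveI : B'.Normal := ⟨fun n hn c => by
    have : c * n * c⁻¹ = n := Subtype.ext (by
      have h := ((mem_localAt.1 c.2).2 _ hn).eq
      show (c : G) * n * (c : G)⁻¹ = n
      rw [show (c : G) * n = n * c from h.symm, mul_inv_cancel_right])
    rwa [this]⟩
  set π := QuotientGroup.mk' B' with hπ
  obtain ⟨T, hT⟩ := (S.full.top.1.to_le S.full.le |>.comap_subtype : IsPGroup 2 (R.subgroupOf C))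
    |>.exists_le_sylow
  set TQ := T.mapSurjective (f := π) (QuotientGroup.mk'_surjective B') with hTQ
  set r : ↥C := ⟨r₀, hRC hr₀⟩ with hr
  have hfix : ∀ q : ↥C ⧸ B', q * π r * q⁻¹ ∈ TQ → q * π r * q⁻¹ = π r := by
    intro q hq
    obtain ⟨c, rfl⟩ := QuotientGroup.mk'_surjective B' q
    rw [← map_inv, ← map_mul, ← map_mul] at hq ⊢
    obtain ⟨t, ht, hte⟩ := hq
    obtain ⟨b, hb, he⟩ := (QuotientGroup.mk'_eq_mk' B').1 hte
    have hmem : c * r * c⁻¹ ∈ T := by
      rw [← he]; exact (T : Subgroup ↥C).mul_mem ht (hT (S.le hb))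
    have hTG : IsPGroup 2 ((T : Subgroup ↥C).map C.subtype) := T.isPGroup'.map _
    have hd : ((c * r * c⁻¹ : ↥C) : G) ∈ R := by
      refine S.full.maximal _ hTG ?_ (fun y hy => ⟨⟨y, hRC hy⟩, hT hy, rfl⟩) _ ?_ ⟨_, hmem, rfl⟩
      · rintro _ ⟨y, -, rfl⟩; exact (mem_localAt.1 y.2).1
      · exact S.one.conj_mem _ r₀ (S.mem_R_of hr₀ fun e => hr₀B (e ▸ B.one_mem))
    refine (QuotientGroup.eq (s := B')).2 ?_
    show ((c * r * c⁻¹ : ↥C) : G)⁻¹ * r₀ ∈ B
    rw [S.inv_R hd]
    have hnB : ((c * r * c⁻¹ : ↥C) : G) ∉ B := fun h => hr₀B (by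
      have e := ((mem_localAt.1 c.2).2 _ h).eq
      have h' : ((c * r * c⁻¹ : ↥C) : G) = r₀ := by
        refine mul_left_cancel (a := (c : G)) ?_
        rw [← e]; push_cast; group; rfl
      rwa [h'] at h)
    exact (Subgroup.mul_mem_iff_of_index_two (H := B.subgroupOf R) hidx
      (a := ⟨_, hd⟩) (b := ⟨r₀, hr₀⟩)).2 (iff_of_false hnB hr₀B)
  have hk := ZStar.comm_mem_oddCore_of_fixed TQ (u := π r) ⟨r, hT hr₀, rfl⟩ hfix (π ⟨g, hg⟩)
  rw [← map_inv, ← map_inv, ← map_mul, ← map_mul, ← map_mul] at hk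
  obtain ⟨b, hb, h, hh, e⟩ := mem_sup_oddCore B'
    (fun n hn y => Subtype.ext ((mem_localAt.1 y.2).2 _ hn).eq)
    (fun n hn => Subtype.ext (S.full.sq _ (S.le hn))) hk
  have hbR : (b : G) ∈ R := S.le hb
  have hhO : (h : G) ∈ oddIn C := ⟨h, hh, rfl⟩
  have eG : (b : G) * h = r₀ * g * r₀⁻¹ * g⁻¹ := congrArg Subtype.val e
  have e2 : g * r₀ * g⁻¹ = r₀⁻¹ * (b : G) * h := by
    rw [mul_assoc r₀⁻¹, eG, S.inv_R hr₀]
    calc g * r₀ * g⁻¹ = (r₀ * r₀) * (g * r₀ * g⁻¹) := by rw [S.full.sq r₀ hr₀, one_mul]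
      _ = r₀ * (r₀ * g * r₀ * g⁻¹) := by group
  rw [e2]
  exact Subgroup.mul_mem _ (mem_sup_right (R.mul_mem (R.inv_mem hr₀) hbR)) (mem_sup_left hhO)

/-- The step of the induction. -/
theorem rcontrol (hstep : HullStep a x R) : RControl (localAt a B) R := by
  rcases Nat.lt_or_ge (Nat.card R) (4 * Nat.card B) with hc | hc
  · exact S.rcontrol_small hc
  have hh := S.hull hc
  have heq := hstep B _ _ S.le hc S.ih hh
  intro g hg r hr
  have hle : psi a R B ≤ oddIn (localAt a B) :=
    le_oddIn S.psi_le (le_of_eq_of_le heq.symm hh.normalises) hh.odd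
  exact sup_le_sup_right hle R (hh.control g (heq.symm ▸ hg) r hr)

end

end Base

end Local

/-- Local control from the line facts and the hull step. -/
theorem localControl_of {G : Type u} {Ω : Type v} [Group G] [MulAction G Ω] [Finite G]
    {D : Set G} {a : Ω} {x : G} {R P : Subgroup G} (h : OnePoint D Ω) (F : FullData D a x R P)
    (L : LineFacts D a x R) (hstep : HullStep a x R) : LocalControl a R := by
  suffices ∀ n, ∀ B : Subgroup G, B ≤ R → Nat.card R - Nat.card B = n → RControl (localAt a B) R from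
    fun B hB g hg r hr => this _ B hB rfl g hg r hr
  intro n
  induction n using Nat.strong_induction_on with
  | _ n ih =>
    intro B hB hn
    refine Local.Base.rcontrol (P := P) ⟨h, F, L, hB, fun B' hlt hB' => ?_⟩ hstep
    have h1 : Nat.card B < Nat.card B' :=
      lt_of_not_ge fun hge => hlt.ne (Subgroup.eq_of_le_of_card_ge hlt.le hge)
    have h2 : Nat.card B' ≤ Nat.card R := Subgroup.card_le_of_le hB'
    exact ih _ (by omega) B' hB' rfl

end CfsgLib.LocalEven.OnePointFront
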